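import Groth.Agent.Pic13.H965.RelGrp
import Mathlib.AlgebraicGeometry.Morphisms.Proper

/-!
# Local families of classes and natural invariants

`p : Y ⟶ S`.

* `fn V r : V ⟶ A1 k`: the map given by a function, over `S = Spec k`;
* `bc hq T`, `rs hq T`: base change to `T` of `h : X ⟶ Y` over `S`, restriction of classes;
* `Fam p N`: a section over `N` of the étale sheafification of `T ↦ Pic Y_T`, given by local data; `Fam.Triv`,
  `Fam.TrivAt e`, `Fam.refine`, `Fam.restr`, `Fam.exists_good_refine`;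
* `Inj hq e`: a family on `N` trivial at `e` is trivial if its restriction along `h` is; `Inj.comp`, `Inj.of_comp`;
* `Inv.eq_zero`: `Γ(N) = k`, `F` trivial at a point: every natural function-valued invariant of classes vanishing
  on the trivial class vanishes on the members of `F`.
-/

set_option autoImplicit false
universe u

open CategoryTheory MonoidalCategory CartesianMonoidalCategory Limits AlgebraicGeometry Opposite
open Groth.Agent.Ega3A.PicDiv Groth.Agent.Ega3A.PicEtSh Groth.Agent.Grpsch.PicGrp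
open Groth.Agent.Ega3A.PicSheaf Groth.Agent.Ega3A.PicLocBase

namespace Groth.Agent.Pic13.H965.Kill

/-! ### Functions as maps to the affine line -/

section Fn

variable {k : Type u} [Field k]

/-- The structure map `k → Γ(V)`. -/
noncomputable def kΓ (V : Over (Spec (CommRingCat.of k))) : k →+* Γ(V.left, ⊤) :=
  ((Scheme.ΓSpecIso (CommRingCat.of k)).inv ≫ V.hom.appTop).hom

lemma appTop_kΓ {V W : Over (Spec (CommRingCat.of k))} (a : W ⟶ V) (x : k) :
    a.left.appTop (kΓ V x) = kΓ W x := by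
  have h : V.hom.appTop ≫ a.left.appTop = W.hom.appTop := by
    rw [← Scheme.Hom.comp_appTop, Over.w]
  simp only [kΓ, ← h]
  rfl

variable (k) in
/-- The affine line. -/
noncomputable abbrev A1 : Over (Spec (CommRingCat.of k)) :=
  Over.mk (Spec.map (CommRingCat.ofHom (Polynomial.C : k →+* Polynomial k)))

/-- The map to the affine line given by a function. -/
noncomputable def fn (V : Over (Spec (CommRingCat.of k))) (r : Γ(V.left, ⊤)) : V ⟶ A1 k :=
  Over.homMk (V.left.toSpecΓ ≫ Spec.map (CommRingCat.ofHom (Polynomial.eval₂RingHom (kΓ V) r))) (by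
    have h1 : CommRingCat.ofHom (Polynomial.C : k →+* Polynomial k) ≫
        CommRingCat.ofHom (Polynomial.eval₂RingHom (kΓ V) r) = CommRingCat.ofHom (kΓ V) := by
      ext x
      simp
    dsimp [A1]
    rw [Category.assoc, ← Spec.map_comp, h1]
    have h2 : CommRingCat.ofHom (kΓ V) = (Scheme.ΓSpecIso (CommRingCat.of k)).inv ≫ V.hom.appTop := rfl
    rw [h2, Spec.map_comp, ← Scheme.toSpecΓ_naturality_assoc]
    simp)

lemma appTop_fn (V : Over (Spec (CommRingCat.of k))) (r : Γ(V.left, ⊤)) :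
    (Scheme.ΓSpecIso (CommRingCat.of (Polynomial k))).inv ≫ (fn V r).left.appTop =
      CommRingCat.ofHom (Polynomial.eval₂RingHom (kΓ V) r) := by
  change _ ≫ Scheme.Hom.appTop
    (V.left.toSpecΓ ≫ Spec.map (CommRingCat.ofHom (Polynomial.eval₂RingHom (kΓ V) r))) = _
  rw [Scheme.Hom.comp_appTop, Scheme.toSpecΓ_appTop]
  have h := Scheme.ΓSpecIso_naturality (CommRingCat.ofHom (Polynomial.eval₂RingHom (kΓ V) r))
  rw [Iso.inv_comp_eq]
  exact h

lemma fn_injective (V : Over (Spec (CommRingCat.of k))) : Function.Injective (fn V) := by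
  intro r r' h
  have h1 := appTop_fn V r
  rw [h, appTop_fn V r'] at h1
  have h2 := congr(($h1).hom Polynomial.X)
  simpa using h2.symm

lemma comp_fn {V W : Over (Spec (CommRingCat.of k))} (a : W ⟶ V) (r : Γ(V.left, ⊤)) :
    a ≫ fn V r = fn W (a.left.appTop r) := by
  apply Over.OverMorphism.ext
  change a.left ≫ V.left.toSpecΓ ≫ Spec.map (CommRingCat.ofHom (Polynomial.eval₂RingHom (kΓ V) r)) =
    W.left.toSpecΓ ≫ Spec.map (CommRingCat.ofHom (Polynomial.eval₂RingHom (kΓ W) (a.left.appTop r)))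
  rw [Scheme.toSpecΓ_naturality_assoc, ← Spec.map_comp]
  congr 2
  ext x
  · simpa using appTop_kΓ a x
  · simp

lemma exists_fn (V : Over (Spec (CommRingCat.of k))) (g : V ⟶ A1 k) : ∃ r, fn V r = g := by
  refine ⟨g.left.appTop ((Scheme.ΓSpecIso (CommRingCat.of (Polynomial k))).inv Polynomial.X), ?_⟩
  apply Over.OverMorphism.ext
  have hA : IsAffine (A1 k).left := inferInstanceAs (IsAffine (Spec _))
  apply ext_of_isAffine
  have h1 := appTop_fn V (g.left.appTop ((Scheme.ΓSpecIso (CommRingCat.of (Polynomial k))).inv Polynomial.X))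
  rw [Iso.inv_comp_eq] at h1
  rw [h1, ← Iso.eq_inv_comp]
  ext x
  · have hw : (A1 k).hom.appTop ≫ g.left.appTop = V.hom.appTop := by
      rw [← Scheme.Hom.comp_appTop, Over.w]
    have h3 : (Scheme.ΓSpecIso (CommRingCat.of k)).inv ≫ (A1 k).hom.appTop =
        CommRingCat.ofHom (Polynomial.C : k →+* Polynomial k) ≫
          (Scheme.ΓSpecIso (CommRingCat.of (Polynomial k))).inv := by
      have := Scheme.ΓSpecIso_inv_naturality (CommRingCat.ofHom (Polynomial.C : k →+* Polynomial k))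
      exact this.symm
    have h4 : (Scheme.ΓSpecIso (CommRingCat.of k)).inv ≫ V.hom.appTop =
        CommRingCat.ofHom (Polynomial.C : k →+* Polynomial k) ≫
          (Scheme.ΓSpecIso (CommRingCat.of (Polynomial k))).inv ≫ g.left.appTop := by
      rw [← hw, ← Category.assoc, h3, Category.assoc]
    change Polynomial.eval₂ _ _ (Polynomial.C x) = _
    rw [Polynomial.eval₂_C]
    exact congr(($h4).hom x)
  · simp

end Fn

/-! ### Refining coverings -/

section Refine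

variable {S : Scheme.{u}}

/-- Every object of `Over S` has an étale covering by affine schemes. -/
lemma exists_affine_ecov (T : Over S) : ∃ 𝒱 : ECov T, ∀ i, IsAffine (𝒱.V i).left := by
  refine ⟨⟨T.left.affineCover.I₀, fun i => Over.mk (T.left.affineCover.f i ≫ T.hom),
    fun i => Over.homMk (T.left.affineCover.f i) rfl, fun i => ?_, fun t => ?_⟩, fun i => ?_⟩
  · exact inferInstanceAs (Etale (T.left.affineCover.f i))
  · obtain ⟨y, hy⟩ := T.left.affineCover.covers t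
    exact ⟨_, y, hy⟩
  · exact inferInstanceAs (IsAffine (T.left.affineCover.X i))

/-- Refinement of a covering. -/
lemma exists_affine_refine {T : Over S} (𝒰 : ECov T) :
    ∃ 𝒱 : ∀ i, ECov (𝒰.V i), ∀ i k, IsAffine ((𝒱 i).V k).left := by
  choose 𝒱 h𝒱 using fun i => exists_affine_ecov (𝒰.V i)
  exact ⟨𝒱, h𝒱⟩

end Refine

/-! ### Base change -/

section BC

variable {X' X Y S : Scheme.{u}} {q' : X' ⟶ S} {q : X ⟶ S} {p : Y ⟶ S} {h : X ⟶ Y} {h' : X' ⟶ X}

/-- Base change of a morphism of `S`-schemes to `T`. -/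
noncomputable def bc (hq : h ≫ p = q) (T : Over S) : PicF.XT q T ⟶ PicF.XT p T :=
  pullback.map q T.hom p T.hom h (𝟙 _) (𝟙 _) (by rw [Category.comp_id, hq]) (by simp)

@[reassoc (attr := simp)]
lemma bc_fst (hq : h ≫ p = q) (T : Over S) :
    bc hq T ≫ pullback.fst p T.hom = pullback.fst q T.hom ≫ h :=
  pullback.lift_fst _ _ _

@[reassoc (attr := simp)]
lemma bc_snd (hq : h ≫ p = q) (T : Over S) :
    bc hq T ≫ pullback.snd p T.hom = pullback.snd q T.hom :=
  (pullback.lift_snd _ _ _).trans (Category.comp_id _)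

@[reassoc]
lemma bc_XTmap (hq : h ≫ p = q) {T T' : Over S} (g : T' ⟶ T) :
    bc hq T' ≫ PicF.XTmap p g = PicF.XTmap q g ≫ bc hq T := by
  apply pullback.hom_ext
  · rw [Category.assoc, XTmap_fst', bc_fst, Category.assoc, bc_fst, XTmap_fst'_assoc]
  · rw [Category.assoc, XTmap_snd', bc_snd_assoc, Category.assoc, bc_snd, XTmap_snd']

lemma bc_bc (hq' : h' ≫ q = q') (hq : h ≫ p = q) (hq'' : (h' ≫ h) ≫ p = q') (T : Over S) :
    bc hq' T ≫ bc hq T = bc hq'' T := by
  apply pullback.hom_ext <;> simp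

/-- Restriction of classes. -/
noncomputable abbrev rs (hq : h ≫ p = q) (T : Over S) : Pic (PicF.XT p T) →* Pic (PicF.XT q T) :=
  pull (bc hq T)

lemma rs_pu (hq : h ≫ p = q) {T T' : Over S} (g : T' ⟶ T) (c : Pic (PicF.XT p T)) :
    rs hq T' (pu p g c) = pu q g (rs hq T c) := by
  rw [rs, pu, ← pull_comp, bc_XTmap, pull_comp]

lemma rs_rs (hq' : h' ≫ q = q') (hq : h ≫ p = q) (hq'' : (h' ≫ h) ≫ p = q') (T : Over S)
    (c : Pic (PicF.XT p T)) : rs hq' T (rs hq T c) = rs hq'' T c := by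
  rw [rs, rs, ← pull_comp, bc_bc hq' hq hq'']

lemma locEq_rs (hq : h ≫ p = q) {T : Over S} {c c' : Pic (PicF.XT p T)} (hc : LocEq p T c c') :
    LocEq q T (rs hq T c) (rs hq T c') := by
  obtain ⟨𝒰, h𝒰⟩ := hc
  exact ⟨𝒰, fun i => by rw [← rs_pu, ← rs_pu, h𝒰 i]⟩

end BC

/-! ### Families -/

section Fam

variable {X' X Y S : Scheme.{u}} {q' : X' ⟶ S} {q : X ⟶ S} {p : Y ⟶ S} {h : X ⟶ Y} {h' : X' ⟶ X}

variable (p) in
/-- A section over `N` of the étale sheafification of `T ↦ Pic Y_T`, given by local data. -/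
structure Fam (N : Over S) where
  /-- the covering -/
  𝒰 : ECov N
  /-- the classes -/
  c : ∀ i, Pic (PicF.XT p (𝒰.V i))
  compat : ∀ (i j : 𝒰.ι) (W : Over S) (a : W ⟶ 𝒰.V i) (b : W ⟶ 𝒰.V j), a ≫ 𝒰.j i = b ≫ 𝒰.j j →
    LocEq p W (pu p a (c i)) (pu p b (c j))

variable {N E : Over S}

namespace Fam

/-- The family is trivial. -/
def Triv (F : Fam p N) : Prop := ∀ i, LocEq p (F.𝒰.V i) (F.c i) 1

/-- The family is trivial at a point. -/
def TrivAt (F : Fam p N) (e : E ⟶ N) : Prop :=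
  ∀ (i : F.𝒰.ι) (W : Over S) (a : W ⟶ F.𝒰.V i) (b : W ⟶ E), a ≫ F.𝒰.j i = b ≫ e →
    LocEq p W (pu p a (F.c i)) 1

/-- Refinement of a family. -/
noncomputable def refine (F : Fam p N) (𝒱 : ∀ i, ECov (F.𝒰.V i)) : Fam p N where
  𝒰 := LocEq.bind F.𝒰 𝒱
  c i := pu p ((𝒱 i.1).j i.2) (F.c i.1)
  compat i j W a b hab := by
    have h := F.compat i.1 j.1 W (a ≫ (𝒱 i.1).j i.2) (b ≫ (𝒱 j.1).j j.2) (by
      rw [Category.assoc, Category.assoc]
      exact hab)
    rw [pu_comp, pu_comp] at h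
    exact h

lemma triv_refine_iff (F : Fam p N) (𝒱 : ∀ i, ECov (F.𝒰.V i)) : (F.refine 𝒱).Triv ↔ F.Triv := by
  constructor
  · intro hF i
    refine LocEq.of_cover (𝒱 i) (fun k => ?_)
    rw [map_one]
    exact hF ⟨i, k⟩
  · intro hF i
    have := (hF i.1).pull ((𝒱 i.1).j i.2)
    rw [map_one] at this
    exact this

lemma TrivAt.refine {F : Fam p N} {e : E ⟶ N} (he : F.TrivAt e) (𝒱 : ∀ i, ECov (F.𝒰.V i)) :
    (F.refine 𝒱).TrivAt e := by
  intro i W a b hab
  have h := he i.1 W (a ≫ (𝒱 i.1).j i.2) b (by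
    rw [Category.assoc]
    exact hab)
  rw [pu_comp] at h
  exact h

/-- Restriction of a family. -/
noncomputable def restr (F : Fam p N) (hq : h ≫ p = q) : Fam q N where
  𝒰 := F.𝒰
  c i := rs hq _ (F.c i)
  compat i j W a b hab := by
    rw [← rs_pu, ← rs_pu]
    exact locEq_rs hq (F.compat i j W a b hab)

lemma Triv.restr {F : Fam p N} (hF : F.Triv) (hq : h ≫ p = q) : (F.restr hq).Triv := by
  intro i
  have := locEq_rs hq (hF i)
  rw [map_one] at this
  exact this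

lemma TrivAt.restr {F : Fam p N} {e : E ⟶ N} (he : F.TrivAt e) (hq : h ≫ p = q) :
    (F.restr hq).TrivAt e := by
  intro i W a b hab
  have := locEq_rs hq (he i W a b hab)
  rw [map_one, rs_pu] at this
  exact this

lemma triv_restr_restr_iff (F : Fam p N) (hq' : h' ≫ q = q') (hq : h ≫ p = q)
    (hq'' : (h' ≫ h) ≫ p = q') : ((F.restr hq).restr hq').Triv ↔ (F.restr hq'').Triv := by
  refine forall_congr' fun i => ?_
  change LocEq q' _ (rs hq' _ (rs hq _ (F.c i))) 1 ↔ LocEq q' _ (rs hq'' _ (F.c i)) 1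
  rw [rs_rs hq' hq hq'']

/-- Refinement with affine members such that a given locally trivial restriction is trivial. -/
lemma exists_good_refine (F : Fam p N) (hq : h ≫ p = q) (hF : (F.restr hq).Triv) :
    ∃ 𝒱 : ∀ i, ECov (F.𝒰.V i), (∀ i, IsAffine ((F.refine 𝒱).𝒰.V i).left) ∧
      ∀ i, rs hq _ ((F.refine 𝒱).c i) = 1 := by
  choose 𝒱 h𝒱 using hF
  choose 𝒲 h𝒲 using fun i => exists_affine_refine (𝒱 i)
  refine ⟨fun i => LocEq.bind (𝒱 i) (𝒲 i), fun i => h𝒲 i.1 i.2.1 i.2.2, fun i => ?_⟩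
  change rs hq _ (pu p (((𝒲 i.1 i.2.1).j i.2.2) ≫ (𝒱 i.1).j i.2.1) (F.c i.1)) = 1
  rw [rs_pu, pu_comp]
  have := h𝒱 i.1 i.2.1
  rw [map_one] at this
  change pu q ((𝒱 i.1).j i.2.1) (rs hq _ (F.c i.1)) = 1 at this
  rw [this, map_one]

/-- Refinement with affine members. -/
lemma exists_aff_refine (F : Fam p N) :
    ∃ 𝒱 : ∀ i, ECov (F.𝒰.V i), (∀ i, IsAffine ((F.refine 𝒱).𝒰.V i).left) := by
  choose 𝒱 h𝒱 using fun i => exists_affine_ecov (F.𝒰.V i)
  exact ⟨𝒱, fun i => h𝒱 i.1 i.2⟩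

end Fam

/-- `h` kills no nontrivial family over `N` which is trivial at `e`. -/
def Inj (hq : h ≫ p = q) (e : E ⟶ N) : Prop :=
  ∀ F : Fam p N, F.TrivAt e → (F.restr hq).Triv → F.Triv

/-- Composition. -/
lemma Inj.comp {hq' : h' ≫ q = q'} {hq : h ≫ p = q} {e : E ⟶ N} (hq'' : (h' ≫ h) ≫ p = q')
    (h1 : Inj hq' e) (h2 : Inj hq e) : Inj hq'' e := by
  intro F he hF
  exact h2 F he (h1 _ (he.restr hq) ((F.triv_restr_restr_iff hq' hq hq'').2 hF))

/-- Cancellation. -/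
lemma Inj.of_comp {hq' : h' ≫ q = q'} {hq : h ≫ p = q} {e : E ⟶ N} {hq'' : (h' ≫ h) ≫ p = q'}
    (h1 : Inj hq'' e) : Inj hq e := by
  intro F he hF
  exact h1 F he ((F.triv_restr_restr_iff hq' hq hq'').1 (hF.restr hq'))

end Fam

/-! ### Invariants -/

section Inv

variable {k : Type u} [Field k] {Y : Scheme.{u}}

/-- A natural function-valued invariant of classes (on affine schemes), vanishing on the trivial class. -/
structure Inv (p : Y ⟶ Spec (CommRingCat.of k)) where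
  /-- `r` is the invariant of `c` -/
  Rel : ∀ V : Over (Spec (CommRingCat.of k)), Pic (PicF.XT p V) → Γ(V.left, ⊤) → Prop
  uniq : ∀ (V : Over (Spec (CommRingCat.of k))) [IsAffine V.left] (c : Pic (PicF.XT p V)) (r r' : Γ(V.left, ⊤)),
    Rel V c r → Rel V c r' → r = r'
  nat : ∀ {V W : Over (Spec (CommRingCat.of k))} [IsAffine V.left] [IsAffine W.left] (a : W ⟶ V)
    (c : Pic (PicF.XT p V)) (r : Γ(V.left, ⊤)), Rel V c r → Rel W (pu p a c) (a.left.appTop r)
  one : ∀ (V : Over (Spec (CommRingCat.of k))) [IsAffine V.left], Rel V 1 0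

variable {p : Y ⟶ Spec (CommRingCat.of k)} {N E : Over (Spec (CommRingCat.of k))}

lemma appTop_comp_apply {U V W : Over (Spec (CommRingCat.of k))} (a : V ⟶ U) (b : W ⟶ V) (r : Γ(U.left, ⊤)) :
    (b ≫ a).left.appTop r = b.left.appTop (a.left.appTop r) := by
  rw [Over.comp_left, Scheme.Hom.comp_appTop]
  rfl

theorem Inv.eq_zero (I : Inv p) (hN : Function.Surjective (kΓ N)) (e : E ⟶ N) [Nonempty E.left] (F : Fam p N)
    (he : F.TrivAt e) (haff : ∀ i, IsAffine (F.𝒰.V i).left) (r : ∀ i, Γ((F.𝒰.V i).left, ⊤))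
    (hr : ∀ i, I.Rel _ (F.c i) (r i)) (i : F.𝒰.ι) : r i = 0 := by
  have key : ∀ (i : F.𝒰.ι) (W : Over (Spec (CommRingCat.of k))) [IsAffine W.left] (a : W ⟶ F.𝒰.V i),
      I.Rel W (pu p a (F.c i)) (a.left.appTop (r i)) := by
    intro i W _ a
    exact I.nat a _ _ (hr i)
  obtain ⟨g, hg⟩ := glue_hom_ecov F.𝒰 (fun i => fn _ (r i)) (by
    intro i j W a b hab
    obtain ⟨𝒲, h𝒲⟩ := F.compat i j W a b hab
    obtain ⟨𝒱, h𝒱⟩ := exists_affine_refine 𝒲
    refine hom_ext_ecov (LocEq.bind 𝒲 𝒱) _ _ (fun l => ?_)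
    have := h𝒱 l.1 l.2
    change (((𝒱 l.1).j l.2) ≫ 𝒲.j l.1) ≫ a ≫ fn _ (r i) = (((𝒱 l.1).j l.2) ≫ 𝒲.j l.1) ≫ b ≫ fn _ (r j)
    rw [comp_fn, comp_fn, comp_fn, comp_fn, ← appTop_comp_apply, ← appTop_comp_apply]
    congr 1
    refine I.uniq _ _ _ _ (key i _ _) ?_
    have h1 : pu p ((((𝒱 l.1).j l.2) ≫ 𝒲.j l.1) ≫ a) (F.c i) =
        pu p ((((𝒱 l.1).j l.2) ≫ 𝒲.j l.1) ≫ b) (F.c j) := by
      rw [pu_comp, pu_comp, h𝒲, ← pu_comp, ← pu_comp]
    rw [h1]
    exact key j _ _)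
  obtain ⟨ρ, hρ⟩ := exists_fn N g
  obtain ⟨x, rfl⟩ := hN ρ
  have hrx : ∀ i, r i = kΓ _ x := by
    intro i
    have := hg i
    rw [← hρ, comp_fn, appTop_kΓ] at this
    exact (fn_injective _ this).symm
  rw [hrx]
  obtain ⟨t⟩ : Nonempty E.left := inferInstance
  obtain ⟨𝒱, h𝒱⟩ := exists_pull F.𝒰 e
  obtain ⟨l, v, -⟩ := 𝒱.covers t
  obtain ⟨i', s, hs⟩ := h𝒱 l
  obtain ⟨𝒲, h𝒲⟩ := he i' _ s (𝒱.j l) hs.symm
  obtain ⟨l', v', -⟩ := 𝒲.covers v
  obtain ⟨𝒲', h𝒲'⟩ := exists_affine_ecov (𝒲.V l')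
  obtain ⟨l'', v'', -⟩ := 𝒲'.covers v'
  have := h𝒲' l''
  have h1 := key i' _ (𝒲'.j l'' ≫ 𝒲.j l' ≫ s)
  rw [hrx, appTop_kΓ, pu_comp, pu_comp, h𝒲, map_one, map_one] at h1
  have h2 := I.uniq _ _ _ _ h1 (I.one _)
  have : Nonempty ((⊤ : (𝒲'.V l'').left.Opens) : Type u) := ⟨⟨v'', trivial⟩⟩
  have : Nontrivial Γ((𝒲'.V l'').left, ⊤) := inferInstance
  have hx : x = 0 := by
    by_contra hx
    have h3 : IsUnit (kΓ (𝒲'.V l'') x) := (IsUnit.mk0 x hx).map _
    rw [h2] at h3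
    exact not_isUnit_zero h3
  rw [hx, map_zero]

end Inv

end Groth.Agent.Pic13.H965.Kill
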