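import Groth.Agent.Pic13.H965.RelGrp
import Groth.Agent.Ega2.LimPic
import Groth.Agent.S0113
import Groth.Agent.Etbase.FppfSource

/-!
# A scheme representing the relative Picard functor is locally of finite type

`f : X ⟶ Spec R` quasi-compact and quasi-separated, `P` representing the étale sheafified relative Picard functor:
then `P` is locally of finite type over `R`.
-/

set_option autoImplicit false
universe u

open CategoryTheory Limits AlgebraicGeometry Opposite
open Groth.Agent.Ega3A.PicDiv Groth.Agent.Ega3A.PicEtSh Groth.Agent.Grpsch.PicGrp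
open Groth.Agent.Ega3A.PicSheaf Groth.Agent.Ega3A.PicLocBase Groth.Agent.Fga.RigGrp
open Groth.Agent.Ega2.LimPic

namespace Groth.Agent.Pic13.H965.LFT

/-- Local finite type descends along an fppf cover of the source. -/
theorem locallyOfFiniteType_of_fppf_comp {X Y S : Scheme.{u}} (f : X ⟶ Y) (q : Y ⟶ S) [Surjective f] [Flat f]
    [LocallyOfFinitePresentation f] [LocallyOfFiniteType (f ≫ q)] :
    LocallyOfFiniteType q := by
  refine Groth.Agent.Etbase.FppfSource.of_fppf_comp_of_ringHom @LocallyOfFiniteType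
    RingHom.FiniteType ?_ f q inferInstance
  intro R A B _ _ _ φ ψ hff hfp h
  algebraize [φ, ψ, ψ.comp φ]
  exact Groth.Agent.S0113.result (R := R) (A := A) (B := B)

/-- Local finite type can be checked on an étale covering of the source. -/
theorem locallyOfFiniteType_of_ecov {S : Scheme.{u}} {P : Over S} (𝒰 : ECov P)
    (h : ∀ i, LocallyOfFiniteType (𝒰.V i).hom) : LocallyOfFiniteType P.hom := by
  let p : (∐ fun i => (𝒰.V i).left) ⟶ P.left := Sigma.desc fun i => (𝒰.j i).left
  have hι : ∀ i, Sigma.ι (fun i => (𝒰.V i).left) i ≫ p = (𝒰.j i).left := fun i => Sigma.ι_desc _ _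
  have hs : Surjective p := by
    constructor
    intro y
    obtain ⟨i, v, hv⟩ := 𝒰.covers y
    refine ⟨Sigma.ι (fun i => (𝒰.V i).left) i v, ?_⟩
    rw [← Scheme.Hom.comp_apply, hι, hv]
  have he : Etale p := by
    rw [IsZariskiLocalAtSource.iff_of_openCover (P := (@Etale : MorphismProperty Scheme.{u})) (sigmaOpenCover _)]
    intro i
    change Etale (Sigma.ι (fun i => (𝒰.V i).left) i ≫ p)
    rw [hι i]
    infer_instance
  have hl : LocallyOfFiniteType (p ≫ P.hom) := by
    rw [IsZariskiLocalAtSource.iff_of_openCover (P := (@LocallyOfFiniteType : MorphismProperty Scheme.{u})) (sigmaOpenCover _)]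
    intro i
    change LocallyOfFiniteType (Sigma.ι (fun i => (𝒰.V i).left) i ≫ p ≫ P.hom)
    rw [← Category.assoc, hι i, Over.w]
    exact h i
  exact locallyOfFiniteType_of_fppf_comp p P.hom

variable {R : Type u} [CommRing R] {X : Scheme.{u}} {f : X ⟶ Spec (CommRingCat.of R)}
  [QuasiCompact f] [QuasiSeparated f] {P : Over (Spec (CommRingCat.of R))}
  {φ : ∀ T : Over (Spec (CommRingCat.of R)), PicF.Cl (PicF.XT f T) → (T ⟶ P)}
  (hφ : PicRel.IsRelPic f P φ)

include hφ

/-- If the classifying map of a class over `Spec B` is locally of finite type, then `B` is of finite type. -/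
theorem finiteType_of_class (B : Type u) [CommRing B] [Algebra R B]
    (c : PicF.Cl (PicF.XT f (spO (𝟙 _) B))) (hc : PicF.IsInvertibleCl c)
    (hl : LocallyOfFiniteType (φ _ c).left) : Algebra.FiniteType R B := by
  obtain ⟨C, hC, h⟩ := exists_cl_FG (𝟙 _) f c hc
  obtain ⟨ξ, hξ, e⟩ := h C le_rfl
  have h1 : φ _ c = spVal (𝟙 _) C ≫ φ _ ξ := by
    rw [← e, hφ.natural _ _ _ _ hξ]
  rw [h1] at hl
  have h2 : LocallyOfFiniteType ((spVal (𝟙 (Spec (CommRingCat.of R))) C).left ≫ (φ _ ξ).left) := hl
  have h3 : LocallyOfFiniteType (spVal (𝟙 (Spec (CommRingCat.of R))) C).left :=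
    locallyOfFiniteType_of_comp _ (φ _ ξ).left
  have h3 : LocallyOfFiniteType (Spec.map (CommRingCat.ofHom (C.val : C →ₐ[R] B).toRingHom)) := h3
  have h4 : ((C.val : C →ₐ[R] B).toRingHom).FiniteType :=
    (HasRingHomProperty.Spec_iff (P := @LocallyOfFiniteType)).mp h3
  have h5 : (algebraMap R C).FiniteType :=
    RingHom.finiteType_algebraMap.mpr ((Subalgebra.fg_iff_finiteType C).mp hC)
  have h6 := h4.comp h5
  exact RingHom.finiteType_algebraMap.mp h6

/-- The representing scheme is locally of finite type. -/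
theorem locallyOfFiniteType_hom : LocallyOfFiniteType P.hom := by
  obtain ⟨𝒰, c, hc⟩ := RelGrp.exists_cm hφ (𝟙 P)
  refine locallyOfFiniteType_of_ecov 𝒰 (fun i => ?_)
  rw [IsZariskiLocalAtSource.iff_of_openCover (P := (@LocallyOfFiniteType : MorphismProperty Scheme.{u})) (𝒰.V i).left.affineCover]
  intro j
  let W : CommRingCat.{u} := (𝒰.V i).left.affineOpenCover.X j
  let w : Spec W ⟶ (𝒰.V i).left := (𝒰.V i).left.affineOpenCover.f j
  have hw : IsOpenImmersion w := inferInstance
  change LocallyOfFiniteType (w ≫ (𝒰.V i).hom)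
  obtain ⟨ψ, hψ⟩ := Spec.map_surjective (w ≫ (𝒰.V i).hom)
  let _ : Algebra R W := ψ.hom.toAlgebra
  let g : spO (𝟙 (Spec (CommRingCat.of R))) W ⟶ 𝒰.V i := Over.homMk w (by
    change w ≫ (𝒰.V i).hom = Spec.map ψ ≫ 𝟙 _
    rw [hψ, Category.comp_id])
  have h1 : RelGrp.cm φ (pu f g (c i)) = g ≫ 𝒰.j i := by
    rw [RelGrp.cm_pu hφ, hc, Category.comp_id]
  have h2 : Algebra.FiniteType R W := by
    refine finiteType_of_class hφ W (toCl (pu f g (c i))) (isInvertibleCl_toCl _) ?_
    change LocallyOfFiniteType (RelGrp.cm φ (pu f g (c i))).left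
    rw [h1]
    change LocallyOfFiniteType (w ≫ (𝒰.j i).left)
    infer_instance
  rw [← hψ]
  exact (HasRingHomProperty.Spec_iff (P := @LocallyOfFiniteType)).mpr (RingHom.finiteType_algebraMap.mpr h2)

end Groth.Agent.Pic13.H965.LFT
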