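import Groth.Agent.Grpsch.CubeLift
import Groth.Agent.Grpsch.PicGrp
import Groth.Agent.Picfga.LineCocycle

/-!
# Unit cocycles of classes of invertible modules

`U : ι → Y.Opens`; `Coc U c v`: `v a b ∈ Γ(Y, U a ⊓ U b)` are the transition functions of generators over the `U a`
of a module in the class `c : Pic Y`.
-/

set_option autoImplicit false
universe u

open CategoryTheory Limits AlgebraicGeometry TopologicalSpace Opposite
open Groth.Agent.Fdesc Groth.Agent.Fdesc.LocGen Groth.Agent.Grpsch.PicGrp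

namespace Groth.Agent.Pic13.H965.Coc

variable {X Y : Scheme.{u}} {ι : Type*} (U : ι → Y.Opens)

/-- `v` is the cocycle of generators over the `U a` of a module of class `c`. -/
def Coc (c : Pic Y) (v : ∀ a b, Γ(Y, U a ⊓ U b)) : Prop :=
  ∃ (L : Y.Modules) (hL : PicF.IsInvertible L) (l : ∀ a, Γ(L, U a)), mk L hL = c ∧ (∀ a, IsGen (l a)) ∧
    ∀ a b, res L (inf_le_left : U a ⊓ U b ≤ U a) (l a) = v a b • res L inf_le_right (l b)

variable {U}

lemma Coc.exists_units {c : Pic Y} {v v' : ∀ a b, Γ(Y, U a ⊓ U b)} (h : Coc U c v) (h' : Coc U c v') :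
    ∃ g : ∀ a, Γ(Y, U a)ˣ, ∀ a b, v' a b * ores inf_le_right (g b : Γ(Y, U b)) =
      ores inf_le_left (g a : Γ(Y, U a)) * v a b := by
  obtain ⟨L, hL, l, hc, hl, hv⟩ := h
  obtain ⟨L', hL', l', hc', hl', hv'⟩ := h'
  obtain ⟨e⟩ := (mk_eq_iff hL hL').1 (hc.trans hc'.symm)
  -- `l' a = g a • e (l a)`
  have h1 : ∀ a, ∃ g : Γ(Y, U a), IsUnit g ∧ l' a = g • e.hom.app (U a) (l a) := fun a =>
    ((hl a).app e.hom).exists_unit (hl' a)
  choose g hg hg' using h1
  refine ⟨fun a => (hg a).unit, fun a b => ?_⟩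
  have h2 := hv' a b
  rw [hg' a, hg' b, res_smul, res_smul, ← app_res, ← app_res, hv a b, Scheme.Modules.Hom.app_smul, smul_smul,
    smul_smul] at h2
  exact (((hl b).app e.hom).res inf_le_right).ext (by
    rw [← app_res]
    exact h2.symm)

lemma Coc.change {c : Pic Y} {v : ∀ a b, Γ(Y, U a ⊓ U b)} (h : Coc U c v) (g : ∀ a, Γ(Y, U a)ˣ)
    (v' : ∀ a b, Γ(Y, U a ⊓ U b))
    (hg : ∀ a b, v' a b * ores inf_le_right (g b : Γ(Y, U b)) = ores inf_le_left (g a : Γ(Y, U a)) * v a b) :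
    Coc U c v' := by
  obtain ⟨L, hL, l, hc, hl, hv⟩ := h
  refine ⟨L, hL, fun a => (g a : Γ(Y, U a)) • l a, hc, fun a => (hl a).unit_smul (g a).isUnit, fun a b => ?_⟩
  rw [res_smul, res_smul, hv, smul_smul, smul_smul, hg]

lemma coc_one : Coc U 1 (fun a b => 1) :=
  ⟨_, isInvertible_structureModule, fun a => one (U a), rfl, fun a => isGen_one _, fun a b => by
    rw [res_one, res_one, one_smul]⟩

lemma Coc.pull {c : Pic Y} {v : ∀ a b, Γ(Y, U a ⊓ U b)} (h : Coc U c v) (f : X ⟶ Y) :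
    Coc (fun a => f ⁻¹ᵁ U a) (pull f c) (fun a b => f.app (U a ⊓ U b) (v a b)) := by
  obtain ⟨L, hL, l, hc, hl, hv⟩ := h
  refine ⟨_, isInvertible_pullback f hL, fun a => pullSec f (l a), ?_, fun a => (hl a).pullSec f, fun a b => ?_⟩
  · rw [← hc]
    rfl
  · have h1 := res_pullSec f (inf_le_left : U a ⊓ U b ≤ U a) (l a)
    have h2 := res_pullSec f (inf_le_right : U a ⊓ U b ≤ U b) (l b)
    refine h1.trans ?_
    rw [hv, pullSec_smul, ← h2]
    rfl

lemma Coc.eq_one {c : Pic Y} (h : Coc U c (fun a b => 1)) (hU : ⨆ a, U a = ⊤) : c = 1 := by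
  obtain ⟨L, hL, l, rfl, hl, hv⟩ := h
  obtain ⟨t, ht⟩ := res_glue L U (fun a => le_top) hU.ge l (fun a b => by rw [hv, one_smul])
  rw [mk_eq_one_iff]
  have hgen : IsGen t := IsGen.of_cover U (fun a => le_top) hU.ge (fun a => by rw [ht]; exact hl a)
  have : IsIso (homOf t) := (isIso_iff_isGen _).2 (by rw [sec_homOf]; exact hgen.res _)
  exact ⟨(asIso (homOf t)).symm⟩

/-- Restriction to a smaller family of opens. -/
lemma Coc.res {c : Pic Y} {v : ∀ a b, Γ(Y, U a ⊓ U b)} (h : Coc U c v) {U' : ι → Y.Opens} (hU : ∀ a, U' a ≤ U a) :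
    Coc U' c (fun a b => ores (inf_le_inf (hU a) (hU b)) (v a b)) := by
  obtain ⟨L, hL, l, hc, hl, hv⟩ := h
  refine ⟨L, hL, fun a => LocGen.res L (hU a) (l a), hc, fun a => (hl a).res _, fun a b => ?_⟩
  have h1 := congrArg (LocGen.res L (inf_le_inf (hU a) (hU b))) (hv a b)
  rw [res_smul, res_res, res_res] at h1
  rw [res_res, res_res, h1]

/-- Pullback, with prescribed opens. -/
lemma Coc.pull' {c : Pic Y} {v : ∀ a b, Γ(Y, U a ⊓ U b)} (h : Coc U c v) (f : X ⟶ Y) {U' : ι → X.Opens}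
    (hU : ∀ a, U' a ≤ f ⁻¹ᵁ U a) :
    Coc U' (Grpsch.PicGrp.pull f c) (fun a b => f.appLE (U a ⊓ U b) (U' a ⊓ U' b)
      (le_inf (inf_le_left.trans (hU a)) (inf_le_right.trans (hU b))) (v a b)) := (h.pull f).res hU

/-- Lifting generators along a surjective closed immersion. -/
lemma exists_coc_of_pull_eq_one {Z : Scheme.{u}} (i : Z ⟶ Y) [IsClosedImmersion i] [Surjective i]
    (hU : ∀ a, IsAffineOpen (U a)) {c : Pic Y} (hc : Grpsch.PicGrp.pull i c = 1) :
    ∃ v, Coc U c v ∧ ∀ a b, i.app (U a ⊓ U b) (v a b) = 1 := by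
  obtain ⟨L, hL, rfl⟩ := exists_mk c
  rw [pull_mk, mk_eq_one_iff] at hc
  obtain ⟨e⟩ := hc
  have hs : ∀ a, ∃ σ : Γ(L, U a), pullSec i σ = e.inv.app _ (one (i ⁻¹ᵁ U a)) ∧ IsGen σ := fun a =>
    Grpsch.CubeLift.exists_lift i hL (hU a) ((isGen_one _).app e.inv)
  choose σ hσ hσ' using hs
  have hv : ∀ a b, ∃ v : Γ(Y, U a ⊓ U b), res L inf_le_left (σ a) = v • res L inf_le_right (σ b) := fun a b =>
    ((hσ' b).res inf_le_right).exists_eq _
  choose v hv using hv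
  refine ⟨v, ⟨L, hL, σ, rfl, hσ', hv⟩, fun a b => ?_⟩
  have h1 : IsGen (e.inv.app _ (one (i ⁻¹ᵁ (U a ⊓ U b)))) := (isGen_one _).app e.inv
  have h2 := congrArg (pullSec i) (hv a b)
  rw [pullSec_smul, ← res_pullSec, ← res_pullSec, hσ, hσ, ← app_res, ← app_res, res_one, res_one] at h2
  refine h1.ext ?_
  rw [one_smul]
  exact h2.symm

end Groth.Agent.Pic13.H965.Coc
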