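import Groth.Agent.Fdesc.LocGen
import Mathlib.AlgebraicGeometry.Morphisms.Proper
import Mathlib.AlgebraicGeometry.Morphisms.ClosedImmersion
import Mathlib.FieldTheory.IsAlgClosed.Basic

/-!
# Global functions on reduced proper schemes over an algebraically closed field

* `exists_locConst`: they are locally constant;
* `appTop_surjective`: `i : Z ⟶ Y` a surjective closed immersion, `Z` reduced and proper over an algebraically closed
  field: `Γ(Y) → Γ(Z)` is surjective.
-/

set_option autoImplicit false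
universe u

open CategoryTheory Limits AlgebraicGeometry TopologicalSpace Opposite
open Groth.Agent.Fdesc.LocGen (ores ores_glue ores_ext ores_ores)

namespace Groth.Agent.Pic13.H965.GlobSurj

variable {k : Type u} [Field k] {Y Z : Scheme.{u}}

/-- The structure map. -/
noncomputable def κ (q : Z ⟶ Spec (CommRingCat.of k)) : k →+* Γ(Z, ⊤) :=
  ((Scheme.ΓSpecIso (CommRingCat.of k)).inv ≫ q.appTop).hom

lemma app_κ {p : Y ⟶ Spec (CommRingCat.of k)} {q : Z ⟶ Spec (CommRingCat.of k)} {i : Z ⟶ Y} (hq : i ≫ p = q)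
    (x : k) : i.appTop (κ p x) = κ q x := by
  have h : p.appTop ≫ i.appTop = q.appTop := by rw [← Scheme.Hom.comp_appTop, hq]
  have h1 : ((Scheme.ΓSpecIso (CommRingCat.of k)).inv ≫ p.appTop) ≫ i.appTop =
      (Scheme.ΓSpecIso (CommRingCat.of k)).inv ≫ q.appTop := by rw [Category.assoc, h]
  exact congr(($h1).hom x)

/-- Global functions on a reduced scheme, universally closed over an algebraically closed field, are locally
constant. -/
theorem exists_locConst [IsAlgClosed k] (q : Z ⟶ Spec (CommRingCat.of k)) [UniversallyClosed q] [IsReduced Z]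
    (f : Γ(Z, ⊤)) : ∃ (S : Finset k) (C : k → Z.Opens), (⨆ a : S, C a.1 = ⊤) ∧
      (∀ a b, a ≠ b → C a ⊓ C b = ⊥) ∧ ∀ a, ores (le_top : C a ≤ ⊤) f = ores le_top (κ q a) := by
  classical
  have hint : (κ q).IsIntegralElem f := by
    have h1 := isIntegral_appTop_of_universallyClosed q f
    obtain ⟨P, hP, hPf⟩ := h1
    refine ⟨P.map (Scheme.ΓSpecIso (CommRingCat.of k)).hom.hom, hP.map _, ?_⟩
    rw [Polynomial.eval₂_map]
    convert hPf using 2
    ext x
    simp [κ]
  obtain ⟨P, hP, hPf⟩ := hint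
  have hsplit : P = (P.roots.map (fun a => Polynomial.X - Polynomial.C a)).prod :=
    (IsAlgClosed.splits P).eq_prod_roots_of_monic hP
  have hprod : (P.roots.map (fun a => f - κ q a)).prod = 0 := by
    rw [hsplit] at hPf
    rw [← hPf]
    change _ = (Polynomial.eval₂RingHom (κ q) f) _
    rw [map_multiset_prod, Multiset.map_map]
    congr 1
    refine Multiset.map_congr rfl (fun a _ => ?_)
    simp
  -- germs
  have hgerm : ∀ z : Z, ∃ a ∈ P.roots, ¬ IsUnit (Z.presheaf.germ ⊤ z trivial (f - κ q a)) := by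
    intro z
    by_contra hcon
    push Not at hcon
    have h1 : IsUnit (Z.presheaf.germ ⊤ z trivial ((P.roots.map (fun a => f - κ q a)).prod)) := by
      rw [map_multiset_prod, Multiset.map_map]
      refine Multiset.prod_induction IsUnit _ (fun _ _ => IsUnit.mul) isUnit_one ?_
      intro y hy
      obtain ⟨a, ha, rfl⟩ := Multiset.mem_map.1 hy
      exact hcon a ha
    rw [hprod, map_zero] at h1
    exact not_isUnit_zero h1
  have hdisj : ∀ (z : Z) (a b : k), ¬ IsUnit (Z.presheaf.germ ⊤ z trivial (f - κ q a)) →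
      ¬ IsUnit (Z.presheaf.germ ⊤ z trivial (f - κ q b)) → a = b := by
    intro z a b ha hb
    by_contra hab
    have h1 : IsUnit (Z.presheaf.germ ⊤ z trivial (κ q (b - a))) :=
      ((IsUnit.mk0 _ (sub_ne_zero.2 (Ne.symm hab))).map (κ q)).map _
    have h2 : κ q (b - a) = (f - κ q a) - (f - κ q b) := by
      rw [map_sub]; ring
    rw [h2, map_sub] at h1
    have h3 : ∀ x y : Z.presheaf.stalk z, IsUnit (x - y) → IsUnit x ∨ IsUnit y := by
      intro x y hxy
      rw [sub_eq_add_neg] at hxy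
      rcases IsLocalRing.isUnit_or_isUnit_of_isUnit_add hxy with h | h
      · exact Or.inl h
      · exact Or.inr (by simpa using h)
    rcases h3 _ _ h1 with h | h
    · exact ha h
    · exact hb h
  have hmem : ∀ (z : Z) (a : k), z ∈ Z.basicOpen (f - κ q a) ↔
      IsUnit (Z.presheaf.germ ⊤ z trivial (f - κ q a)) := fun z a => Z.mem_basicOpen_top _ _
  let D : k → Z.Opens := fun a => Z.basicOpen (f - κ q a)
  have hopen : ∀ a, IsOpen ((D a : Set Z)ᶜ) := by
    intro a
    have h1 : ((D a : Set Z)ᶜ) = (⋃ b ∈ P.roots.toFinset.erase a, ((D b : Set Z)ᶜ))ᶜ := by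
      ext z
      simp only [Set.mem_compl_iff, Set.mem_iUnion, not_exists, SetLike.mem_coe, not_not, D, hmem]
      constructor
      · intro ha b hb
        by_contra hb'
        exact (Finset.mem_erase.1 hb).1 (hdisj z b a hb' ha)
      · intro h ha
        obtain ⟨b, hb, hb'⟩ := hgerm z
        refine hb' (h b (Finset.mem_erase.2 ⟨?_, Multiset.mem_toFinset.2 hb⟩))
        rintro rfl
        exact hb' ha
    rw [h1, isOpen_compl_iff]
    exact Set.Finite.isClosed_biUnion (Finset.finite_toSet _) (fun b _ => (D b).isOpen.isClosed_compl)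
  refine ⟨P.roots.toFinset, fun a => ⟨((D a : Set Z)ᶜ), hopen a⟩, ?_, ?_, ?_⟩
  · rw [eq_top_iff]
    intro z _
    obtain ⟨a, ha, ha'⟩ := hgerm z
    rw [Opens.mem_iSup]
    refine ⟨⟨a, Multiset.mem_toFinset.2 ha⟩, ?_⟩
    change ¬ (z ∈ D a)
    rwa [hmem]
  · intro a b hab
    rw [eq_bot_iff]
    rintro z ⟨hz, hz'⟩
    refine hab (hdisj z a b ?_ ?_)
    · rw [← hmem]; exact hz
    · rw [← hmem]; exact hz'
  · intro a
    rw [← sub_eq_zero, ← map_sub]
    have h1 : Z.basicOpen (ores (le_top : (⟨((D a : Set Z)ᶜ), hopen a⟩ : Z.Opens) ≤ ⊤) (f - κ q a)) = ⊥ := by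
      have h2 := Z.basicOpen_res (f - κ q a) (homOfLE (le_top : (⟨((D a : Set Z)ᶜ), hopen a⟩ : Z.Opens) ≤ ⊤)).op
      refine h2.trans ?_
      rw [eq_bot_iff]
      rintro z ⟨hz, hz'⟩
      exact hz hz'
    exact (AlgebraicGeometry.basicOpen_eq_bot_iff _).1 h1

/-- Functions lift along a surjective closed immersion with reduced proper source over an algebraically closed
field. -/
theorem appTop_surjective [IsAlgClosed k] {p : Y ⟶ Spec (CommRingCat.of k)} {q : Z ⟶ Spec (CommRingCat.of k)}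
    {i : Z ⟶ Y} (hq : i ≫ p = q) [UniversallyClosed q] [IsReduced Z] [IsClosedImmersion i] [Surjective i] :
    Function.Surjective i.appTop := by
  intro f
  obtain ⟨S, C, hC, hdisj, hf⟩ := exists_locConst q f
  have hinj : Function.Injective i := i.isClosedEmbedding.injective
  have hopen : ∀ a, IsOpen (i '' (C a : Set Z)) := by
    intro a
    have h1 : i '' (C a : Set Z) = (i '' ((C a : Set Z)ᶜ))ᶜ := by
      rw [Set.image_compl_eq ⟨hinj, i.surjective⟩, compl_compl]
    rw [h1, isOpen_compl_iff]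
    refine i.isClosedEmbedding.isClosedMap _ ?_
    rw [isClosed_compl_iff]
    exact (C a).isOpen
  let O : k → Y.Opens := fun a => ⟨i '' (C a : Set Z), hopen a⟩
  have hpre : ∀ a, i ⁻¹ᵁ O a = C a := by
    intro a
    ext z
    change i z ∈ i '' (C a : Set Z) ↔ z ∈ C a
    constructor
    · rintro ⟨z', hz', h⟩
      rwa [← hinj h]
    · exact fun h => ⟨z, h, rfl⟩
  have hO : (⊤ : Y.Opens) ≤ ⨆ a : S, O a.1 := by
    intro y _
    obtain ⟨z, rfl⟩ := i.surjective y
    have hz : z ∈ ⨆ a : S, C a.1 := by rw [hC]; trivial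
    obtain ⟨a, ha⟩ := Opens.mem_iSup.1 hz
    exact Opens.mem_iSup.2 ⟨a, ⟨z, ha, rfl⟩⟩
  obtain ⟨t, ht⟩ := ores_glue (X := Y) (V := ⊤) (fun a : S => O a.1) (fun a => le_top) hO
    (fun a => ores le_top (κ p a.1)) (fun a b => by
      by_cases hab : a = b
      · subst hab
        exact (ores_ores _ _ _).trans (ores_ores _ _ _).symm
      · have h1 : O a.1 ⊓ O b.1 = ⊥ := by
          rw [eq_bot_iff]
          rintro y ⟨⟨z, hz, rfl⟩, ⟨z', hz', h⟩⟩
          have h2 : z ∈ C a.1 ⊓ C b.1 := ⟨hz, by rwa [← hinj h]⟩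
          rw [hdisj _ _ (fun h => hab (Subtype.ext h))] at h2
          exact h2.elim
        have : Subsingleton Γ(Y, O a.1 ⊓ O b.1) := by
          rw [h1]
          exact CommRingCat.subsingleton_of_isTerminal Y.sheaf.isTerminalOfEmpty
        exact Subsingleton.elim _ _)
  refine ⟨t, ?_⟩
  refine ores_ext (X := Z) (V := ⊤) (fun a : S => C a.1) (fun a => le_top) hC.ge (fun a => ?_)
  rw [hf]
  have h1 : ores (le_top : C a.1 ≤ ⊤) (i.appTop t) = ores (hpre a.1).ge (i.app (O a.1) (ores le_top t)) := by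
    have h2 : (i.app (O a.1) (Y.presheaf.map (homOfLE (le_top : O a.1 ≤ ⊤)).op t) : Γ(Z, i ⁻¹ᵁ O a.1)) =
        Z.presheaf.map (homOfLE (le_top : i ⁻¹ᵁ O a.1 ≤ ⊤)).op (i.app ⊤ t) :=
      congr($(i.naturality (homOfLE (le_top : O a.1 ≤ ⊤)).op) t)
    have h3 : ores (hpre a.1).ge (i.app (O a.1) (ores le_top t)) =
        ores (hpre a.1).ge (ores (le_top : i ⁻¹ᵁ O a.1 ≤ ⊤) (i.app ⊤ t)) := congrArg _ h2
    rw [h3, ores_ores]
    rfl
  have h4 : ores (le_top : C a.1 ≤ ⊤) (i.appTop (κ p a.1)) =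
      ores (hpre a.1).ge (i.app (O a.1) (ores le_top (κ p a.1))) := by
    have h2 : (i.app (O a.1) (Y.presheaf.map (homOfLE (le_top : O a.1 ≤ ⊤)).op (κ p a.1)) : Γ(Z, i ⁻¹ᵁ O a.1)) =
        Z.presheaf.map (homOfLE (le_top : i ⁻¹ᵁ O a.1 ≤ ⊤)).op (i.app ⊤ (κ p a.1)) :=
      congr($(i.naturality (homOfLE (le_top : O a.1 ≤ ⊤)).op) (κ p a.1))
    have h3 : ores (hpre a.1).ge (i.app (O a.1) (ores le_top (κ p a.1))) =
        ores (hpre a.1).ge (ores (le_top : i ⁻¹ᵁ O a.1 ≤ ⊤) (i.app ⊤ (κ p a.1))) := congrArg _ h2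
    rw [h3, ores_ores]
    rfl
  rw [h1, ht a, ← h4, app_κ hq]

end Groth.Agent.Pic13.H965.GlobSurj
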