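import Groth.Agent.Pic13.H965.RelGrp
import Groth.Agent.Pic13.H965.Kill

/-!
# Morphisms to a Picard scheme killed by pullback, after base change

`trivial_of_inj`: `m : PY ⟶ PX` the pullback along `h : X ⟶ Y` over `S`, `a : S' ⟶ S` an fpqc covering, `g : N ⟶ PY`
trivial at a point and with `g ≫ m` trivial.  If `Inj` holds for `h_{S'}` and `N_{S'}`, then `g` is trivial.
-/

set_option autoImplicit false
universe u

open CategoryTheory MonoidalCategory CartesianMonoidalCategory Limits AlgebraicGeometry Opposite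
open Groth.Agent.Ega3A.PicDiv Groth.Agent.Ega3A.PicEtSh Groth.Agent.Grpsch.PicGrp
open Groth.Agent.Ega3A.PicSheaf Groth.Agent.Ega3A.PicLocBase Groth.Agent.Fga.RigGrp
open Groth.Agent.Pic13.H965.RelGrp Groth.Agent.Pic13.H965.Kill

namespace Groth.Agent.Pic13.H965.Kbar

variable {X Y S S' : Scheme.{u}} {p : Y ⟶ S} {q : X ⟶ S} {h : X ⟶ Y} (a : S' ⟶ S)

section Lift

variable {P : Over S} {φ : ∀ T : Over S, PicF.Cl (PicF.XT p T) → (T ⟶ P)} (hφ : PicRel.IsRelPic p P φ)

include hφ in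
lemma exists_cm_lift (T : Over S') (g : (Over.map a).obj T ⟶ P) :
    ∃ (𝒰 : ECov T) (d : ∀ i, Pic (PicF.XT (pullback.snd p a) (𝒰.V i))),
      ∀ i, cm φ (tr (f := p) a _ (d i)) = (Over.map a).map (𝒰.j i) ≫ g := by
  obtain ⟨𝒰, c, hc⟩ := exists_cm hφ g
  have h1 : ∀ i, ∃ d : Pic (PicF.XT (pullback.snd p a) ((ecovLift a 𝒰).V i)), tr (f := p) a _ d =
      pu p (fromMap a (𝒰.V i) _ (ecovLift_w a 𝒰 i)) (c i) := fun i => tr_surjective (f := p) a _ _
  choose d hd using h1
  refine ⟨ecovLift a 𝒰, d, fun i => ?_⟩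
  rw [hd, cm_pu hφ, hc, ← Category.assoc]
  congr 1

/-- The family attached to a morphism to `P` after base change. -/
noncomputable def famOf (T : Over S') (g : (Over.map a).obj T ⟶ P) : Fam (pullback.snd p a) T where
  𝒰 := (exists_cm_lift a hφ T g).choose
  c := (exists_cm_lift a hφ T g).choose_spec.choose
  compat i j W b c hbc := by
    have h1 := (exists_cm_lift a hφ T g).choose_spec.choose_spec
    rw [← locEq_tr_iff a, tr_pu, tr_pu, ← cm_eq_iff hφ, cm_pu hφ, cm_pu hφ, h1, h1, ← Category.assoc,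
      ← Category.assoc, ← Functor.map_comp, ← Functor.map_comp, hbc]

lemma cm_famOf (T : Over S') (g : (Over.map a).obj T ⟶ P) (i : (famOf a hφ T g).𝒰.ι) :
    cm φ (tr (f := p) a _ ((famOf a hφ T g).c i)) = (Over.map a).map ((famOf a hφ T g).𝒰.j i) ≫ g :=
  (exists_cm_lift a hφ T g).choose_spec.choose_spec i

lemma tr_one (T : Over S') : tr (f := p) a T 1 = 1 := map_one (pull (eT p a T).hom)

include hφ in
lemma cm_one {T T' : Over S} (g : T' ⟶ T) : g ≫ cm φ (1 : Pic (PicF.XT p T)) = cm φ (1 : Pic (PicF.XT p T')) := by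
  rw [← cm_pu hφ, map_one]

/-- If the family is trivial, so is the morphism. -/
lemma eq_of_triv (T : Over S') (g : (Over.map a).obj T ⟶ P) (hF : (famOf a hφ T g).Triv) : g = cm φ 1 := by
  apply hom_ext_ecov (ecovMap a (famOf a hφ T g).𝒰)
  intro i
  change (Over.map a).map ((famOf a hφ T g).𝒰.j i) ≫ g = (Over.map a).map ((famOf a hφ T g).𝒰.j i) ≫ cm φ 1
  rw [← cm_famOf, ← cm_pu hφ, map_one, cm_eq_iff hφ]
  have h1 := (locEq_tr_iff (f := p) a _ _ _).2 (hF i)
  rw [tr_one] at h1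
  exact h1

/-- If the morphism is trivial at a point, so is the family. -/
lemma trivAt_famOf (T : Over S') (g : (Over.map a).obj T ⟶ P) {E : Over S'} (e : E ⟶ T)
    (he : (Over.map a).map e ≫ g = cm φ 1) : (famOf a hφ T g).TrivAt e := by
  intro i W b c hbc
  rw [← locEq_tr_iff a, tr_pu, tr_one, ← cm_eq_iff hφ, cm_pu hφ, cm_famOf, ← Category.assoc, ← Functor.map_comp,
    hbc, Functor.map_comp, Category.assoc, he, ← cm_pu hφ, map_one]

end Lift

section BaseChange

variable (hq : h ≫ p = q)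

/-- The base change of `h`. -/
noncomputable def hB : pullback q a ⟶ pullback p a :=
  pullback.map q a p a h (𝟙 _) (𝟙 _) (by rw [Category.comp_id, hq]) (by simp)

lemma hB_snd : hB a hq ≫ pullback.snd p a = pullback.snd q a :=
  (pullback.lift_snd _ _ _).trans (Category.comp_id _)

lemma hB_fst : hB a hq ≫ pullback.fst p a = pullback.fst q a ≫ h :=
  pullback.lift_fst _ _ _

lemma eT_bc (T : Over S') : (eT q a T).hom ≫ bc (hB_snd a hq) T = bc hq ((Over.map a).obj T) ≫ (eT p a T).hom := by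
  apply pullback.hom_ext
  · rw [Category.assoc, bc_fst, Category.assoc]
    apply pullback.hom_ext
    · simp only [Category.assoc, hB_fst]
      rw [eT_hom_fst_fst_assoc, eT_hom_fst_fst, bc_fst]
    · simp only [Category.assoc, hB_snd]
      rw [eT_hom_fst_snd, eT_hom_fst_snd, bc_snd_assoc]
  · rw [Category.assoc, bc_snd, Category.assoc, eT_hom_snd, eT_hom_snd, bc_snd]

lemma tr_rs (T : Over S') (c : Pic (PicF.XT (pullback.snd p a) T)) :
    tr (f := q) a T (rs (hB_snd a hq) T c) = rs hq ((Over.map a).obj T) (tr (f := p) a T c) := by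
  rw [tr, rs, tr, rs, ← pull_comp, ← pull_comp, eT_bc]

variable {PY PX : Over S} {φY : ∀ T : Over S, PicF.Cl (PicF.XT p T) → (T ⟶ PY)}
  {φX : ∀ T : Over S, PicF.Cl (PicF.XT q T) → (T ⟶ PX)} (hY : PicRel.IsRelPic p PY φY)
  (hX : PicRel.IsRelPic q PX φX) (m : PY ⟶ PX)
  (hm : ∀ (T : Over S) (c : Pic (PicF.XT p T)), cm φX (rs hq T c) = cm φY c ≫ m)

include hX hm in
/-- If the composition with `m` is trivial, the restriction of the family is trivial. -/
lemma triv_restr_famOf (T : Over S') (g : (Over.map a).obj T ⟶ PY) (hg : g ≫ m = cm φX 1) :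
    ((famOf a hY T g).restr (hB_snd a hq)).Triv := by
  intro i
  change LocEq (pullback.snd q a) _ (rs (hB_snd a hq) _ ((famOf a hY T g).c i)) 1
  rw [← locEq_tr_iff (f := q) a, tr_rs, tr_one, ← cm_eq_iff hX, hm, cm_famOf, Category.assoc, hg, ← cm_pu hX]
  exact congrArg _ (map_one _)

include hY hX hm in
/-- Descent of triviality along `a : S' ⟶ S`. -/
theorem trivial_of_inj (T : Over S') {N : Over S} (π : (Over.map a).obj T ⟶ N)
    (hπ : ∀ g g' : N ⟶ PY, π ≫ g = π ≫ g' → g = g') {E : Over S'} (e : E ⟶ T)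
    (H : Inj (hB_snd a hq) e) (g : N ⟶ PY) (hg : g ≫ m = cm φX 1)
    (he : (Over.map a).map e ≫ π ≫ g = cm φY 1) : g = cm φY 1 := by
  apply hπ
  rw [cm_one hY]
  refine eq_of_triv a hY T _ (H _ (trivAt_famOf a hY T _ e he) (triv_restr_famOf a hq hY hX m hm T _ ?_))
  rw [Category.assoc, hg, cm_one hX]

end BaseChange

end Groth.Agent.Pic13.H965.Kbar
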