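import Groth.Agent.Pic13.H965.NilKill
import Groth.Agent.Pic13.H965.GlobSurj
import Groth.Agent.Ega1.ReducedSub

/-!
# Reduction of the kernel theorem to reduced schemes

`inj_of_reduced`: over an algebraically closed field, `Inj` for surjective morphisms of proper schemes follows from the
reduced case.
-/

set_option autoImplicit false
universe u

open CategoryTheory MonoidalCategory CartesianMonoidalCategory Limits AlgebraicGeometry TopologicalSpace Opposite
open Groth.Agent.Pic13.H965.Kill

namespace Groth.Agent.Pic13.H965.Red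

/-- The reduction of a scheme. -/
theorem exists_red (Y : Scheme.{u}) : ∃ (Y' : Scheme.{u}) (i : Y' ⟶ Y), IsReduced Y' ∧
    IsClosedImmersion i ∧ Surjective i := by
  refine ⟨Y.nilradical.subscheme, Y.nilradical.subschemeι,
    Groth.Agent.Ega1.ReducedSub.isReduced_subscheme_radical _, inferInstance, ?_⟩
  rw [surjective_iff, ← Set.range_eq_univ, Scheme.IdealSheafData.range_subschemeι,
    Scheme.support_nilradical]
  rfl

/-- A morphism from a reduced scheme lifts along surjective closed immersions. -/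
theorem exists_lift {X Y Z : Scheme.{u}} [IsReduced X] (h : X ⟶ Y) (i : Z ⟶ Y) [IsClosedImmersion i] [Surjective i] :
    ∃ h' : X ⟶ Z, h' ≫ i = h := by
  have h1 : IsIso (pullback.fst h i) := isIso_of_isClosedImmersion_of_surjective _
  refine ⟨inv (pullback.fst h i) ≫ pullback.snd h i, ?_⟩
  rw [Category.assoc, ← pullback.condition, IsIso.inv_hom_id_assoc]

theorem inj_of_reduced (k : Type u) [Field k] [IsAlgClosed k] {N E : Over (Spec (CommRingCat.of k))}
    (hN : Function.Surjective (kΓ N)) (e : E ⟶ N) [Nonempty E.left]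
    (H : ∀ {X Y : Scheme.{u}} (p : Y ⟶ Spec (CommRingCat.of k)) (q : X ⟶ Spec (CommRingCat.of k)) (h : X ⟶ Y)
      (hq : h ≫ p = q) [IsProper p] [IsProper q] [IsReduced X] [IsReduced Y] [Surjective h], Inj hq e)
    {X Y : Scheme.{u}} (p : Y ⟶ Spec (CommRingCat.of k)) (q : X ⟶ Spec (CommRingCat.of k)) (h : X ⟶ Y)
    (hq : h ≫ p = q) [IsProper p] [IsProper q] [Surjective h] : Inj hq e := by
  obtain ⟨X', a, h1, h2, h3⟩ := exists_red X
  obtain ⟨Y', i, h4, h5, h6⟩ := exists_red Y
  obtain ⟨h', hh'⟩ := exists_lift (a ≫ h) i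
  have h7 : Surjective h' := by
    have h8 : Surjective (h' ≫ i) := by rw [hh']; infer_instance
    rw [surjective_iff]
    intro z
    obtain ⟨x, hx⟩ := (h' ≫ i).surjective (i z)
    refine ⟨x, i.isClosedEmbedding.injective ?_⟩
    rw [← hx]
    rfl
  -- `X' → Y' → Y`
  have hcompact : CompactSpace Y := QuasiCompact.compactSpace_of_compactSpace p
  have hnoeth : IsLocallyNoetherian Y := LocallyOfFiniteType.isLocallyNoetherian p
  have hs : Function.Surjective i.appTop := GlobSurj.appTop_surjective (p := p) (q := i ≫ p) (i := i) rfl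
  have k1 : Inj (h := i) (p := p) (q := i ≫ p) rfl e := NilKill.inj_nil rfl hs e hN
  have e1 : (a ≫ h) ≫ p = h' ≫ i ≫ p := by rw [← hh', Category.assoc]
  have e2 : a ≫ q = h' ≫ i ≫ p := by rw [← e1, Category.assoc, hq]
  have h9 : IsProper (h' ≫ i ≫ p) := by rw [← e2]; infer_instance
  have k2 : Inj (h := h') (p := i ≫ p) (q := h' ≫ i ≫ p) rfl e := H _ _ _ _
  have k3 : Inj (h := h' ≫ i) (p := p) (q := h' ≫ i ≫ p) (Category.assoc _ _ _) e := k2.comp _ k1
  have k4 : Inj (h := a ≫ h) (p := p) (q := h' ≫ i ≫ p) e1 e := by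
    revert k3
    generalize_proofs h8
    revert h8
    rw [hh']
    exact fun _ h => h
  exact Inj.of_comp (hq' := e2) k4

end Groth.Agent.Pic13.H965.Red
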