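import Mathlib.RingTheory.IsTensorProduct
import Mathlib.RingTheory.TensorProduct.IsBaseChangePi
import Mathlib.LinearAlgebra.TensorProduct.Basis
import Mathlib.LinearAlgebra.TensorProduct.RightExactness
import Mathlib.LinearAlgebra.Basis.VectorSpace
import Mathlib.RingTheory.Nilpotent.Basic
import Mathlib.Tactic.LinearCombination

/-!
# Algebra for the nilpotent step

* `mem_span_of_functionals`: an element of `M ⊗ R` killed by all functionals of `M` vanishing on `V'` lies in `V' ⊗ R`;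
* `Cocyc.diff_of_equiv`, `Cocyc.exists_improve`: unit cocycles congruent to `1` modulo `n ^ j`.
-/

set_option autoImplicit false

universe u

namespace Groth.Agent.Pic13.H965.NilAlg

section LA

variable {K R M N : Type*} [Field K] [CommRing R] [Algebra K R] [AddCommGroup M] [Module K M]
  [AddCommGroup N] [Module K N] [Module R N] [IsScalarTower K R N]

open TensorProduct in
theorem mem_span_of_functionals {f : M →ₗ[K] N} (hf : IsBaseChange R f) (V' : Submodule K M) (z : N)
    (hz : ∀ μ : M →ₗ[K] K, V' ≤ LinearMap.ker μ → hf.lift ((Algebra.linearMap K R) ∘ₗ μ) z = 0) :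
    z ∈ Submodule.span R (f '' V') := by
  obtain ⟨z', rfl⟩ := hf.equiv.surjective z
  let b := Module.Basis.ofVectorSpace K (M ⧸ V')
  have h1 : (LinearMap.lTensor R V'.mkQ) z' = 0 := by
    refine (b.baseChange R).ext_elem (fun i => ?_)
    have h2 : ∀ w : R ⊗[K] M, (b.baseChange R).repr (LinearMap.lTensor R V'.mkQ w) i =
        hf.lift ((Algebra.linearMap K R) ∘ₗ (b.coord i ∘ₗ V'.mkQ)) (hf.equiv w) := by
      intro w
      induction w with
      | zero => simp
      | add x y hx hy => simp [hx, hy]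
      | tmul r m =>
        rw [IsBaseChange.equiv_tmul, map_smul, IsBaseChange.lift_eq]
        simp [Module.Basis.baseChange_repr_tmul, Algebra.smul_def, mul_comm]
    rw [h2, hz]
    · simp
    · intro v hv
      simp [(Submodule.Quotient.mk_eq_zero V').2 hv]
  have h3 : Function.Exact (LinearMap.lTensor R V'.subtype) (LinearMap.lTensor R V'.mkQ) :=
    lTensor_exact R (LinearMap.exact_subtype_mkQ V') (Submodule.mkQ_surjective V')
  obtain ⟨y, rfl⟩ := (h3 _).1 h1
  clear h1 hz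
  induction y with
  | zero => simp
  | add x y hx hy => simpa using Submodule.add_mem _ hx hy
  | tmul r m =>
    rw [LinearMap.lTensor_tmul, IsBaseChange.equiv_tmul]
    exact Submodule.smul_mem _ _ (Submodule.subset_span ⟨_, m.2, rfl⟩)

omit [AddCommGroup M] [Module K M] [AddCommGroup N] [Module K N] [Module R N] [IsScalarTower K R N] in
open TensorProduct in
/-- The kernel of the base change of a surjection is spanned by the kernel. -/
theorem mem_span_of_map_eq_zero {M N M' N' : Type*} [AddCommGroup M] [Module K M] [AddCommGroup N] [Module K N]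
    [Module R N] [IsScalarTower K R N] [AddCommGroup M'] [Module K M'] [AddCommGroup N'] [Module K N']
    [Module R N'] [IsScalarTower K R N'] {f : M →ₗ[K] N} (hf : IsBaseChange R f) {f' : M' →ₗ[K] N'}
    (hf' : IsBaseChange R f') (φ : M →ₗ[K] M') (hφ : Function.Surjective φ) (Φ : N →+ N')
    (hΦ : ∀ (r : R) (m : M), Φ (r • f m) = r • f' (φ m)) (z : N) (hz : Φ z = 0) :
    z ∈ Submodule.span R (f '' (LinearMap.ker φ)) := by
  obtain ⟨z', rfl⟩ := hf.equiv.surjective z
  have h1 : (LinearMap.lTensor R φ) z' = 0 := by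
    apply hf'.equiv.injective
    have h2 : ∀ w : R ⊗[K] M, hf'.equiv (LinearMap.lTensor R φ w) = Φ (hf.equiv w) := by
      intro w
      induction w with
      | zero => simp
      | add x y hx hy => simp [hx, hy]
      | tmul r m => simp [IsBaseChange.equiv_tmul, hΦ]
    rw [h2, hz, map_zero]
  have h3 : Function.Exact (LinearMap.lTensor R (LinearMap.ker φ).subtype) (LinearMap.lTensor R φ) :=
    lTensor_exact R (LinearMap.exact_subtype_ker_map φ) hφ
  obtain ⟨y, rfl⟩ := (h3 _).1 h1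
  clear h1 hz
  induction y with
  | zero => simp
  | add x y hx hy => simpa using Submodule.add_mem _ hx hy
  | tmul r m =>
    rw [LinearMap.lTensor_tmul, IsBaseChange.equiv_tmul]
    exact Submodule.smul_mem _ _ (Submodule.subset_span ⟨_, m.2, rfl⟩)

end LA

section Cocyc

/-- Rings of a covering and of its overlaps, with nilpotent ideals, such that a function defined modulo the ideals
lifts. -/
structure Data (ι : Type*) where
  /-- rings of the members -/
  A : ι → Type u
  /-- rings of the overlaps -/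
  B : ι → ι → Type u
  [ringA : ∀ a, CommRing (A a)]
  [ringB : ∀ a b, CommRing (B a b)]
  /-- first restriction -/
  α : ∀ a b, A a →+* B a b
  /-- second restriction -/
  β : ∀ a b, A b →+* B a b
  /-- ideals of the members -/
  n : ∀ a, Ideal (A a)
  /-- ideals of the overlaps -/
  n' : ∀ a b, Ideal (B a b)
  hα : ∀ a b x, x ∈ n a → α a b x ∈ n' a b
  hβ : ∀ a b x, x ∈ n b → β a b x ∈ n' a b
  hn : ∀ a x, x ∈ n a → IsNilpotent x
  lift : ∀ x : ∀ a, A a, (∀ a b, α a b (x a) - β a b (x b) ∈ n' a b) →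
    ∃ γ : ∀ a, A a, (∀ a b, α a b (γ a) = β a b (γ b)) ∧ ∀ a, x a - γ a ∈ n a

attribute [instance] Data.ringA Data.ringB

variable {ι : Type*} (D : Data.{u} ι)

namespace Data

lemma diff_of_equiv {j : ℕ} (hj : 1 ≤ j) (v v' : ∀ a b, D.B a b) (g : ∀ a, (D.A a)ˣ)
    (hg : ∀ a b, v' a b * D.β a b (g b) = D.α a b (g a) * v a b)
    (hv : ∀ a b, v a b - 1 ∈ (D.n' a b) ^ j) (hv' : ∀ a b, v' a b - 1 ∈ (D.n' a b) ^ j) :
    ∃ m : ∀ a, D.A a, ∀ a b, (v' a b - v a b) - (D.α a b (m a) - D.β a b (m b)) ∈ (D.n' a b) ^ (j + 1) := by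
  have hle : ∀ a b, (D.n' a b) ^ j ≤ D.n' a b := fun a b => Ideal.pow_le_self (by omega)
  have h1 : ∀ a b, D.α a b (g a) - D.β a b (g b) ∈ D.n' a b := by
    intro a b
    have h2 : D.α a b (g a) - D.β a b (g b) =
        (v' a b - 1) * D.β a b (g b) - (v a b - 1) * D.α a b (g a) := by
      linear_combination (-1 : D.B a b) * hg a b
    rw [h2]
    exact sub_mem (Ideal.mul_mem_right _ _ (hle _ _ (hv' a b))) (Ideal.mul_mem_right _ _ (hle _ _ (hv a b)))
  obtain ⟨γ, hγ, hγ'⟩ := D.lift (fun a => (g a : D.A a)) h1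
  -- `γ` is a unit
  have hu : ∀ a, IsUnit (γ a) := by
    intro a
    have h3 : IsNilpotent ((g a : D.A a) - γ a) := D.hn a _ (hγ' a)
    have h4 : γ a = g a + -(g a - γ a) := by ring
    rw [h4]
    exact h3.neg.isUnit_add_left_of_commute (g a).isUnit (Commute.all _ _)
  choose u hu using hu
  refine ⟨fun a => ((u a)⁻¹ : (D.A a)ˣ) * (g a - γ a), fun a b => ?_⟩
  -- with `δ = α γ_a = β γ_b`
  have e1 : D.α a b ((u a)⁻¹ : (D.A a)ˣ) * D.α a b (γ a) = 1 := by
    rw [← map_mul, ← hu, Units.inv_mul, map_one]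
  have e2 : D.β a b ((u b)⁻¹ : (D.A b)ˣ) * D.β a b (γ b) = 1 := by
    rw [← map_mul, ← hu, Units.inv_mul, map_one]
  have e3 : D.α a b ((u a)⁻¹ : (D.A a)ˣ) = D.β a b ((u b)⁻¹ : (D.A b)ˣ) := by
    rw [hγ a b] at e1
    calc D.α a b ((u a)⁻¹ : (D.A a)ˣ) = D.α a b ((u a)⁻¹ : (D.A a)ˣ) *
          (D.β a b ((u b)⁻¹ : (D.A b)ˣ) * D.β a b (γ b)) := by rw [e2, mul_one]
      _ = D.β a b ((u b)⁻¹ : (D.A b)ˣ) * (D.α a b ((u a)⁻¹ : (D.A a)ˣ) * D.β a b (γ b)) := by ring
      _ = _ := by rw [e1, mul_one]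
  set c := D.β a b ((u b)⁻¹ : (D.A b)ˣ) with hc
  set ga := D.α a b (g a) with hga
  set gb := D.β a b (g b) with hgb
  have ha : ga - D.α a b (γ a) ∈ D.n' a b := by
    rw [← map_sub]
    exact D.hα a b _ (hγ' a)
  have hb : gb - D.β a b (γ b) ∈ D.n' a b := by
    rw [← map_sub]
    exact D.hβ a b _ (hγ' b)
  rw [map_mul, map_mul, map_sub, map_sub, e3, ← hc, ← hga, ← hgb, hγ a b]
  rw [hγ a b] at ha
  have e4 : c * D.β a b (γ b) = 1 := e2
  have key : v' a b - v a b - (c * (ga - D.β a b (γ b)) - c * (gb - D.β a b (γ b))) =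
      (v a b - 1) * (c * (ga - D.β a b (γ b))) - (v' a b - 1) * (c * (gb - D.β a b (γ b))) := by
    have h5 := hg a b
    rw [← hga, ← hgb] at h5
    linear_combination (v a b - v' a b) * e4 + c * h5
  rw [key, pow_succ]
  exact sub_mem (Ideal.mul_mem_mul (hv a b) (Ideal.mul_mem_left _ _ ha))
    (Ideal.mul_mem_mul (hv' a b) (Ideal.mul_mem_left _ _ hb))

lemma exists_improve {j : ℕ} (hj : 1 ≤ j) (v : ∀ a b, D.B a b) (hv : ∀ a b, v a b - 1 ∈ (D.n' a b) ^ j)
    (x : ∀ a, D.A a) (hx : ∀ a b, (v a b - 1) - (D.α a b (x a) - D.β a b (x b)) ∈ (D.n' a b) ^ (j + 1)) :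
    ∃ (g : ∀ a, (D.A a)ˣ) (v' : ∀ a b, D.B a b),
      (∀ a b, v' a b * D.β a b (g b) = D.α a b (g a) * v a b) ∧ ∀ a b, v' a b - 1 ∈ (D.n' a b) ^ (j + 1) := by
  have hle : ∀ a b, (D.n' a b) ^ j ≤ D.n' a b := fun a b => Ideal.pow_le_self (by omega)
  have h1 : ∀ a b, D.α a b (x a) - D.β a b (x b) ∈ (D.n' a b) ^ j := by
    intro a b
    have h2 := sub_mem (hv a b) (Ideal.pow_le_pow_right (by omega) (hx a b))
    rwa [sub_sub_cancel] at h2
  obtain ⟨γ, hγ, hγ'⟩ := D.lift x (fun a b => hle a b (h1 a b))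
  -- `m = x - γ`
  have hm : ∀ a, IsUnit (1 + (x a - γ a)) := fun a => (D.hn a _ (hγ' a)).isUnit_one_add
  choose u hu using hm
  have hα : ∀ a b, D.α a b ((u a)⁻¹ : (D.A a)ˣ) * (1 + (D.α a b (x a) - D.α a b (γ a))) = 1 := by
    intro a b
    rw [← map_sub, ← map_one (D.α a b), ← map_add, ← hu, ← map_mul, Units.inv_mul, map_one]
  have hβ : ∀ a b, D.β a b (u b) = 1 + (D.β a b (x b) - D.β a b (γ b)) := by
    intro a b
    rw [← map_sub, ← map_one (D.β a b), ← map_add, ← hu]
  have hβ' : ∀ a b, D.β a b (u b) * D.β a b ((u b)⁻¹ : (D.A b)ˣ) = 1 := by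
    intro a b
    rw [← map_mul, Units.mul_inv, map_one]
  refine ⟨fun a => (u a)⁻¹, fun a b => D.α a b ((u a)⁻¹ : (D.A a)ˣ) * v a b * D.β a b (u b), fun a b => ?_,
    fun a b => ?_⟩
  · rw [mul_assoc, hβ', mul_one]
  · set c := D.α a b ((u a)⁻¹ : (D.A a)ˣ) with hc
    set y := D.α a b (x a) - D.α a b (γ a) with hy
    have hy' : D.β a b (u b) = 1 + (y - (D.α a b (x a) - D.β a b (x b))) := by
      rw [hβ, hy, hγ a b]; ring
    have hcy : c * (1 + y) = 1 := hα a b
    have hyn : y - (D.α a b (x a) - D.β a b (x b)) ∈ D.n' a b := by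
      have h3 : y - (D.α a b (x a) - D.β a b (x b)) = D.β a b (x b - γ b) := by
        rw [hy, hγ a b, map_sub]; ring
      rw [h3]
      exact D.hβ a b _ (hγ' b)
    change c * v a b * D.β a b (u b) - 1 ∈ _
    rw [hy']
    set d := D.α a b (x a) - D.β a b (x b) with hd
    have key : c * v a b * (1 + (y - d)) - 1 =
        c * (((v a b - 1) - d) + (v a b - 1) * (y - d)) := by
      linear_combination (1 : D.B a b) * hcy
    rw [key]
    refine Ideal.mul_mem_left _ _ (add_mem (hx a b) ?_)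
    rw [pow_succ]
    exact Ideal.mul_mem_mul (hv a b) hyn

end Data

end Cocyc

end Groth.Agent.Pic13.H965.NilAlg
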