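import Groth.Agent.Pic13.H965.Tens
import Groth.Agent.Pic13.H965.Coc
import Groth.Agent.Pic13.H965.NilAlg

/-!
# The nilpotent step: algebra of functions

`i : Z ⟶ Y` a surjective closed immersion over `k`, `U : ι → Y.Opens` affine; `I0`, `IT` the ideals of `Z`, `Z × V`;
`data`: the lifting data for the covering of `Y × V` by the `U a × V`.
-/

set_option autoImplicit false
universe u

open CategoryTheory Limits AlgebraicGeometry TopologicalSpace Opposite
open Groth.Agent.Fdesc.LocGen (ores ores_glue ores_ext ores_ores)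
open Groth.Agent.Pic13.H965.Kill Groth.Agent.Pic13.H965.Tens Groth.Agent.Pic13.H965.NilAlg

namespace Groth.Agent.Pic13.H965.Nil

variable {k : Type u} [Field k] {Y Z : Scheme.{u}} {p : Y ⟶ Spec (CommRingCat.of k)}
  {q : Z ⟶ Spec (CommRingCat.of k)} {i : Z ⟶ Y} (hq : i ≫ p = q)

/-- The ideal of `Z` over `U`. -/
noncomputable def I0 (U : Y.Opens) : Ideal (F0 p U) := RingHom.ker (i0 U hq)

/-- The ideal of `Z × V` over `U × V`. -/
noncomputable def IT (U : Y.Opens) (V : Over (Spec (CommRingCat.of k))) : Ideal (FT p U V) :=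
  (I0 hq U).map (pb p U V)

variable {U : Y.Opens} {V : Over (Spec (CommRingCat.of k))}

lemma pb_mem {b : F0 p U} (hb : b ∈ I0 hq U) : pb p U V b ∈ IT hq U V := Ideal.mem_map_of_mem _ hb

lemma iT_eq_zero {x : FT p U V} (hx : x ∈ IT hq U V) : iT U V hq x = 0 := by
  have h1 : IT hq U V ≤ RingHom.ker (iT U V hq) := by
    rw [IT, Ideal.map_le_iff_le_comap]
    intro b hb
    rw [Ideal.mem_comap, RingHom.mem_ker]
    refine (iT_pb hq b).trans ?_
    rw [(RingHom.mem_ker).1 hb, map_zero]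
  exact h1 hx

lemma mem_IT_of_iT_eq_zero [IsClosedImmersion i] [IsAffine V.left] (hU : IsAffineOpen U) {x : FT p U V}
    (hx : iT U V hq x = 0) : x ∈ IT hq U V := by
  have hU' : IsAffineOpen (i ⁻¹ᵁ U) := hU.preimage i
  have h1 := mem_span_of_map_eq_zero (R := F0 V.hom ⊤)
    (isBaseChange p U V hU.isCompact hU.isQuasiSeparated)
    (isBaseChange q (i ⁻¹ᵁ U) V hU'.isCompact hU'.isQuasiSeparated) (i0 U hq).toLinearMap
    (by exact i.app_surjective U hU) (iT U V hq : FT p U V →+ FT q (i ⁻¹ᵁ U) V)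
    (fun r m => by
      change iT U V hq (r • pb p U V m) = r • pb q (i ⁻¹ᵁ U) V (i0 U hq m)
      rw [map_smul, iT_pb]) x hx
  refine Submodule.span_induction (p := fun x _ => x ∈ IT hq U V) ?_ (zero_mem _) (fun _ _ _ _ => add_mem)
    (fun r y _ hy => ?_) h1
  · rintro _ ⟨b, hb, rfl⟩
    exact pb_mem hq hb
  · rw [Algebra.smul_def]
    exact Ideal.mul_mem_left _ _ hy

lemma rT_mem {U' : Y.Opens} (h : U' ≤ U) {x : FT p U V} (hx : x ∈ IT hq U V) : rT h x ∈ IT hq U' V := by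
  have h1 : IT hq U V ≤ (IT hq U' V).comap (rT h) := by
    rw [IT, Ideal.map_le_iff_le_comap]
    intro b hb
    rw [Ideal.mem_comap, Ideal.mem_comap, rT_pb]
    refine pb_mem hq ?_
    rw [I0, RingHom.mem_ker] at hb ⊢
    have h2 : (i.app U' (Y.presheaf.map (homOfLE h).op b) : Γ(Z, i ⁻¹ᵁ U')) =
        Z.presheaf.map (homOfLE (i.preimage_mono h)).op (i.app U b) :=
      congr($(i.naturality (homOfLE h).op) b)
    refine h2.trans ?_
    have h3 : (i.app U b : Γ(Z, i ⁻¹ᵁ U)) = 0 := hb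
    rw [h3]
    exact map_zero _
  exact h1 hx

lemma aT_mem {W : Over (Spec (CommRingCat.of k))} (a : W ⟶ V) {j : ℕ} {x : FT p U V} (hx : x ∈ IT hq U V ^ j) :
    aT p U a x ∈ IT hq U W ^ j := by
  have h0 : IT hq U V ≤ (IT hq U W).comap (aT p U a) := by
    rw [IT, Ideal.map_le_iff_le_comap]
    intro b hb
    rw [Ideal.mem_comap, Ideal.mem_comap, aT_pb]
    exact pb_mem hq hb
  have h1 := Ideal.le_comap_pow (aT p U a) j (Ideal.pow_right_mono h0 j hx)
  exact h1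

/-- Elements of the ideal of `Z` are nilpotent. -/
lemma isNilpotent_of_mem_I0 [Surjective i] (hU : IsAffineOpen U) {b : F0 p U} (hb : b ∈ I0 hq U) :
    IsNilpotent b := by
  have h1 : (i.app U b : Γ(Z, i ⁻¹ᵁ U)) = 0 := hb
  have h2 : Y.basicOpen (show Γ(Y, U) from b) = ⊥ := by
    rw [eq_bot_iff]
    intro y hy
    obtain ⟨z, rfl⟩ := i.surjective y
    have h3 : z ∈ i ⁻¹ᵁ Y.basicOpen (show Γ(Y, U) from b) := hy
    rw [Scheme.preimage_basicOpen] at h3
    change z ∈ Z.basicOpen (i.app U b) at h3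
    rw [h1, Scheme.basicOpen_zero] at h3
    exact h3.elim
  exact (AlgebraicGeometry.Scheme.isNilpotent_iff_basicOpen_eq_bot_of_isCompact hU.isCompact _).2 h2

lemma isNilpotent_of_mem_IT [Surjective i] (hU : IsAffineOpen U) {x : FT p U V} (hx : x ∈ IT hq U V) :
    IsNilpotent x := by
  have h1 : IT hq U V ≤ nilradical (FT p U V) := by
    rw [IT, Ideal.map_le_iff_le_comap]
    intro b hb
    rw [Ideal.mem_comap, mem_nilradical]
    exact (isNilpotent_of_mem_I0 hq hU hb).map _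
  exact h1 hx

/-! ### Lifting functions -/

lemma iT_surjective_top [IsAffine V.left] [CompactSpace Z] [QuasiSeparatedSpace Z]
    (hs : Function.Surjective i.appTop) : Function.Surjective (iT (⊤ : Y.Opens) V hq) := by
  intro y
  have hbc := isBaseChange q (i ⁻¹ᵁ ⊤) V (CompactSpace.isCompact_univ (X := Z))
    (isQuasiSeparated_univ (α := Z))
  refine hbc.inductionOn y (motive := fun y => ∃ x, iT (⊤ : Y.Opens) V hq x = y) ⟨0, map_zero _⟩ ?_ ?_ ?_
  · intro b
    obtain ⟨b', hb'⟩ := hs b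
    refine ⟨pb p ⊤ V b', (iT_pb hq _).trans ?_⟩
    exact congrArg (pb q (i ⁻¹ᵁ ⊤) V) hb'
  · rintro r _ ⟨x, rfl⟩
    exact ⟨r • x, map_smul _ _ _⟩
  · rintro _ _ ⟨x, rfl⟩ ⟨x', rfl⟩
    exact ⟨x + x', map_add _ _ _⟩

lemma exists_lift [IsClosedImmersion i] [IsAffine V.left] [CompactSpace Z] [QuasiSeparatedSpace Z]
    (hs : Function.Surjective i.appTop) {ι : Type*} {U : ι → Y.Opens} (hU : ∀ a, IsAffineOpen (U a))
    (hc : ⨆ a, U a = ⊤) (x : ∀ a, FT p (U a) V)
    (hx : ∀ a b, rT (inf_le_left : U a ⊓ U b ≤ U a) (x a) - rT inf_le_right (x b) ∈ IT hq (U a ⊓ U b) V) :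
    ∃ γ : FT p ⊤ V, ∀ a, x a - rT le_top γ ∈ IT hq (U a) V := by
  have hcov : opT q (i ⁻¹ᵁ ⊤) V ≤ ⨆ a, opT q (i ⁻¹ᵁ U a) V := by
    change opT q (i ⁻¹ᵁ ⊤) V ≤ ⨆ a, (pullback.fst q V.hom) ⁻¹ᵁ (i ⁻¹ᵁ U a)
    rw [← Scheme.Hom.preimage_iSup, ← Scheme.Hom.preimage_iSup, hc]
  obtain ⟨t, ht⟩ := ores_glue (X := PicF.XT q V) (V := opT q (i ⁻¹ᵁ ⊤) V) (fun a => opT q (i ⁻¹ᵁ U a) V)
    (fun a => (pullback.fst q V.hom).preimage_mono (i.preimage_mono le_top)) hcov
    (fun a => iT (U a) V hq (x a)) (fun a b => by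
      have h1 := iT_eq_zero hq (hx a b)
      rw [map_sub, sub_eq_zero, iT_rT, iT_rT] at h1
      exact h1)
  obtain ⟨γ, hγ⟩ := iT_surjective_top hq hs (V := V) t
  refine ⟨γ, fun a => mem_IT_of_iT_eq_zero hq (hU a) ?_⟩
  rw [map_sub, iT_rT, hγ, sub_eq_zero]
  exact (ht a).symm

section Data

variable [IsClosedImmersion i] [Surjective i] [CompactSpace Z] [QuasiSeparatedSpace Z]
  (hs : Function.Surjective i.appTop) {ι : Type*} {U : ι → Y.Opens} (hU : ∀ a, IsAffineOpen (U a))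
  (hc : ⨆ a, U a = ⊤)

/-- The lifting data of the covering `U a × V` of `Y × V`. -/
noncomputable def data (V : Over (Spec (CommRingCat.of k))) [IsAffine V.left] : Data ι where
  A a := FT p (U a) V
  B a b := FT p (U a ⊓ U b) V
  α a b := (rT (inf_le_left : U a ⊓ U b ≤ U a)).toRingHom
  β a b := (rT (inf_le_right : U a ⊓ U b ≤ U b)).toRingHom
  n a := IT hq (U a) V
  n' a b := IT hq (U a ⊓ U b) V
  hα a b x hx := rT_mem hq _ hx
  hβ a b x hx := rT_mem hq _ hx
  hn a x hx := isNilpotent_of_mem_IT hq (hU a) hx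
  lift x hx := by
    obtain ⟨γ, hγ⟩ := exists_lift hq hs hU hc x hx
    refine ⟨fun a => rT le_top γ, fun a b => ?_, hγ⟩
    have h1 : ∀ {A B C : Y.Opens} (h : B ≤ A) (h' : C ≤ B) (y : FT p A V), rT h' (rT h y) = rT (h'.trans h) y :=
      fun h h' y => ores_ores (X := PicF.XT p V) _ _ _
    exact (h1 _ _ _).trans (h1 _ _ _).symm

end Data

end Groth.Agent.Pic13.H965.Nil
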