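import Groth.Agent.Pic13.H965.NilLin
import Mathlib.AlgebraicGeometry.Noetherian

/-!
# The nilpotent step

`inj_nil`: `i : Z ⟶ Y` a surjective closed immersion of Noetherian separated `k`-schemes with
`Γ(Y) → Γ(Z)` surjective; `N` over `k` with `Γ(N) = k`.  A local family of classes on `Y × N` which is trivial at a
point of `N` and has trivial restriction to `Z × N` is trivial.
-/

set_option autoImplicit false
universe u

open CategoryTheory Limits AlgebraicGeometry TopologicalSpace Opposite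
open Groth.Agent.Fdesc.LocGen (ores ores_glue ores_ext ores_ores)
open Groth.Agent.Ega3A.PicDiv Groth.Agent.Ega3A.PicEtSh Groth.Agent.Grpsch.PicGrp Groth.Agent.Ega3A.PicSheaf
open Groth.Agent.Pic13.H965.Kill Groth.Agent.Pic13.H965.Tens Groth.Agent.Pic13.H965.NilAlg
  Groth.Agent.Pic13.H965.Nil Groth.Agent.Pic13.H965.NilLin Groth.Agent.Pic13.H965.Coc

namespace Groth.Agent.Pic13.H965.NilKill

variable {k : Type u} [Field k] {Y Z : Scheme.{u}} {p : Y ⟶ Spec (CommRingCat.of k)}
  {q : Z ⟶ Spec (CommRingCat.of k)} {i : Z ⟶ Y} (hq : i ≫ p = q)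

lemma isPullback_bc (hq : i ≫ p = q) (V : Over (Spec (CommRingCat.of k))) :
    IsPullback (bc hq V) (pullback.fst q V.hom) (pullback.fst p V.hom) i := by
  have h1 : IsPullback (pullback.snd p V.hom) (pullback.fst p V.hom) V.hom p :=
    (IsPullback.of_hasPullback p V.hom).flip
  refine IsPullback.of_right (h₁₂ := pullback.snd p V.hom) (h₂₂ := p) ?_ (bc_fst hq V) h1
  rw [bc_snd, hq]
  exact (IsPullback.of_hasPullback q V.hom).flip

section Main

variable [IsClosedImmersion i] [Surjective i] [CompactSpace Z] [QuasiSeparatedSpace Z]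
  (hs : Function.Surjective i.appTop) {ι : Type*} [Finite ι] {U : ι → Y.Opens} (hU : ∀ a, IsAffineOpen (U a))
  (hU' : ∀ a b, IsAffineOpen (U a ⊓ U b)) (hc : ⨆ a, U a = ⊤)

/-- The invariant attached to a functional. -/
noncomputable def inv {j : ℕ} (hj : 1 ≤ j) (μ : M0 p U →ₗ[k] k) (hμ : W0 hq U j ≤ LinearMap.ker μ) : Inv p where
  Rel V c r := ∃ (hV : IsAffine V.left) (v : ∀ a b, FT p (U a ⊓ U b) V),
    Coc (fun a => opT p (U a) V) c v ∧ (∀ a b, v a b - 1 ∈ IT hq (U a ⊓ U b) V ^ j) ∧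
      muV hU' hV μ (fun a b => v a b - 1) = r
  uniq := by
    rintro V _ c _ _ ⟨hV, v, hv, hv1, rfl⟩ ⟨-, v', hv', hv1', rfl⟩
    obtain ⟨g, hg⟩ := hv.exists_units hv'
    obtain ⟨m, hm⟩ := (data hq hs hU hc V).diff_of_equiv hj v v' g hg hv1 hv1'
    have h1 := muV_eq_zero hq hU' hV hU μ hμ (fun a b => v' a b - v a b) m hm
    have h2 : (fun a b => v' a b - 1 : MT p U V) = (fun a b => v a b - 1) + (fun a b => v' a b - v a b) := by
      funext a b
      change v' a b - 1 = (v a b - 1) + (v' a b - v a b)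
      ring
    rw [h2, map_add, h1, add_zero]
  nat := by
    rintro V W _ hW a c _ ⟨hV, v, hv, hv1, rfl⟩
    refine ⟨hW, fun b c => aT p (U b ⊓ U c) a (v b c), ?_, fun b c => ?_, ?_⟩
    · exact hv.pull' (PicF.XTmap p a) (fun b => (XTmap_preimage a).ge)
    · have h1 := aT_mem hq a (hv1 b c)
      rw [map_sub, map_one] at h1
      exact h1
    · rw [← muV_nat hU' a hV hW μ]
      congr 1
      funext b c
      rw [map_sub, map_one]
  one := by
    intro V hV
    refine ⟨hV, fun a b => 1, coc_one, fun a b => by rw [sub_self]; exact zero_mem _, ?_⟩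
    have h1 : (fun a b => (1 : FT p (U a ⊓ U b) V) - 1 : MT p U V) = 0 := by
      funext a b
      exact sub_self _
    rw [h1, map_zero]
    rfl

/-- `c` has a cocycle congruent to `1` modulo `I ^ j`. -/
def Q (U : ι → Y.Opens) (j : ℕ) (V : Over (Spec (CommRingCat.of k))) (c : Pic (PicF.XT p V)) : Prop :=
  ∃ v : ∀ a b, FT p (U a ⊓ U b) V, Coc (fun a => opT p (U a) V) c v ∧
    ∀ a b, v a b - 1 ∈ IT hq (U a ⊓ U b) V ^ j

omit [CompactSpace Z] [QuasiSeparatedSpace Z] [Finite ι] in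
include hU hU' in
lemma Q_one {V : Over (Spec (CommRingCat.of k))} [IsAffine V.left] {c : Pic (PicF.XT p V)}
    (h : rs hq V c = 1) : Q hq U 1 V c := by
  have h1 : IsClosedImmersion (bc hq V) :=
    MorphismProperty.of_isPullback (P := @IsClosedImmersion) (isPullback_bc hq V).flip inferInstance
  have h2 : Surjective (bc hq V) :=
    MorphismProperty.of_isPullback (P := @Surjective) (isPullback_bc hq V).flip inferInstance
  have h0 : IsAffineHom V.hom := isAffineHom_of_isAffine (Y := Spec (CommRingCat.of k)) V.hom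
  have h0' : IsAffineHom (pullback.fst p V.hom) :=
    MorphismProperty.pullback_fst (P := @IsAffineHom) p V.hom h0
  have haff : ∀ a, IsAffineOpen (opT p (U a) V) := fun a => (hU a).preimage (pullback.fst p V.hom)
  obtain ⟨v, hv, hv1⟩ := exists_coc_of_pull_eq_one (bc hq V) haff h
  refine ⟨v, hv, fun a b => ?_⟩
  rw [pow_one]
  refine mem_IT_of_iT_eq_zero hq (hU' a b) ?_
  rw [map_sub, map_one, sub_eq_zero]
  have h3 := hv1 a b
  have h4 : iT (U a ⊓ U b) V hq (v a b) =
      ores (bc_preimage hq).ge ((bc hq V).app (opT p (U a) V ⊓ opT p (U b) V) (v a b)) := rfl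
  rw [h4, h3]
  exact map_one (ores (bc_preimage hq).ge)

variable {N E : Over (Spec (CommRingCat.of k))} (e : E ⟶ N) [Nonempty E.left] (hN : Function.Surjective (kΓ N))

include hs hU hU' hc hN in
lemma Q_succ {j : ℕ} (hj : 1 ≤ j) (F : Fam p N) (he : F.TrivAt e) (haff : ∀ i, IsAffine (F.𝒰.V i).left)
    (hF : ∀ i, Q hq U j _ (F.c i)) (l : F.𝒰.ι) : Q hq U (j + 1) _ (F.c l) := by
  have hv := fun i => hF i
  choose v hv hv1 using hv
  have := haff l
  obtain ⟨x, hx⟩ := exists_diff hq hU' (haff l) (fun a b => v l a b - 1) (fun μ hμ => by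
    have h1 := (inv hq hs hU hU' hc hj μ hμ).eq_zero hN e F he haff
      (fun i => muV hU' (haff i) μ (fun a b => v i a b - 1)) (fun i => ⟨haff i, v i, hv i, hv1 i, rfl⟩) l
    exact h1)
  obtain ⟨g, v', hg, hv'⟩ := (data hq hs hU hc (F.𝒰.V l)).exists_improve hj (v l) (hv1 l) x hx
  exact ⟨v', (hv l).change g v' hg, hv'⟩

include hs hU hU' hc hN in
lemma Q_all {j : ℕ} (F : Fam p N) (he : F.TrivAt e) (haff : ∀ i, IsAffine (F.𝒰.V i).left)
    (hF : ∀ i, rs hq _ (F.c i) = 1) (l : F.𝒰.ι) : Q hq U (j + 1) _ (F.c l) := by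
  induction j generalizing l with
  | zero =>
    have := haff l
    exact Q_one hq hU hU' (hF l)
  | succ j ih => exact Q_succ hq hs hU hU' hc e hN (by omega) F he haff ih l

omit [CompactSpace Z] [QuasiSeparatedSpace Z] [IsClosedImmersion i] in
include hU' in
lemma exists_pow_eq_bot [IsLocallyNoetherian Y] : ∃ m : ℕ, ∀ a b, (I0 hq (U a ⊓ U b)) ^ m = ⊥ := by
  have h1 : ∀ x : ι × ι, ∃ m : ℕ, (I0 hq (U x.1 ⊓ U x.2)) ^ m = ⊥ := by
    intro x
    have : IsNoetherianRing (F0 p (U x.1 ⊓ U x.2)) :=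
      IsLocallyNoetherian.component_noetherian ⟨_, hU' x.1 x.2⟩
    obtain ⟨m, hm⟩ := IsNoetherianRing.isNilpotent_nilradical (F0 p (U x.1 ⊓ U x.2))
    refine ⟨m, ?_⟩
    rw [eq_bot_iff]
    refine (Ideal.pow_right_mono (fun y hy => ?_) m).trans hm.le
    exact isNilpotent_of_mem_I0 hq (hU' _ _) hy
  choose m hm using h1
  obtain ⟨M, hM⟩ := (Set.finite_range m).bddAbove
  refine ⟨M, fun a b => ?_⟩
  rw [eq_bot_iff, ← hm (a, b)]
  exact Ideal.pow_le_pow_right (hM ⟨(a, b), rfl⟩)

include hs hU hU' hc hN in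
theorem inj_aux [IsLocallyNoetherian Y] : Inj hq e := by
  intro F he hF
  obtain ⟨𝒱, haff, h1⟩ := F.exists_good_refine hq hF
  rw [← F.triv_refine_iff 𝒱]
  obtain ⟨m, hm⟩ := exists_pow_eq_bot hq hU'
  intro l
  obtain ⟨v, hv, hv1⟩ := Q_all hq hs hU hU' hc e hN (j := m) (F.refine 𝒱) (he.refine 𝒱) haff h1 l
  have h2 : v = fun a b => 1 := by
    funext a b
    have h3 := hv1 a b
    rw [IT, ← Ideal.map_pow, pow_succ, hm, Ideal.bot_mul, Ideal.map_bot, Ideal.mem_bot, sub_eq_zero] at h3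
    exact h3
  rw [h2] at hv
  have h4 : ⨆ a, opT p (U a) ((F.refine 𝒱).𝒰.V l) = ⊤ := by
    change ⨆ a, (pullback.fst p _) ⁻¹ᵁ U a = ⊤
    rw [← Scheme.Hom.preimage_iSup, hc]
    rfl
  rw [hv.eq_one h4]
  exact LocEq.refl _

end Main

/-- **The nilpotent step.** -/
theorem inj_nil [IsClosedImmersion i] [Surjective i] [IsLocallyNoetherian Y] [CompactSpace Y] [IsSeparated p]
    (hs : Function.Surjective i.appTop) {N E : Over (Spec (CommRingCat.of k))} (e : E ⟶ N) [Nonempty E.left]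
    (hN : Function.Surjective (kΓ N)) : Inj hq e := by
  have : Y.IsSeparated := by
    rw [Scheme.isSeparated_iff]
    have h1 : terminal.from Y = p ≫ terminal.from _ := Subsingleton.elim _ _
    rw [h1]
    infer_instance
  have hZ : CompactSpace Z := i.isClosedEmbedding.compactSpace
  have : QuasiSeparatedSpace Z := by
    have h2 : QuasiSeparated (terminal.from Z) := by
      have h1 : terminal.from Z = i ≫ p ≫ terminal.from _ := Subsingleton.elim _ _
      rw [h1]
      infer_instance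
    exact (quasiSeparatedSpace_iff_quasiSeparated Z).2 h2
  obtain ⟨s, hs', hs''⟩ := (isCompact_iff_finite_and_eq_biUnion_affineOpens (U := (⊤ : Y.Opens))).mp
    (CompactSpace.isCompact_univ (X := Y))
  have := hs'.to_subtype
  refine inj_aux hq hs (ι := s) (U := fun a => a.1.1) (fun a => a.1.2) (fun a b => a.1.2.inf b.1.2) ?_ e hN
  rw [hs'', iSup_subtype]

end Groth.Agent.Pic13.H965.NilKill
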