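import Groth.Agent.Pic13.H965.Nil

/-!
# The nilpotent step: linear invariants

`M0 p U = ∏ Γ(Y, U a ⊓ U b)`, `MT p U V = ∏ Γ(Y × V, (U a ⊓ U b) × V)`; `W0 hq U j`: the families which are a difference
`x a - x b` modulo `I ^ (j + 1)`; `muV μ : MT p U V → Γ(V)` the extension of a functional `μ` of `M0 p U`.

* `muV_eq_zero`: if `μ` kills `W0`, then `muV μ` kills the differences modulo `I ^ (j + 1)`;
* `exists_diff`: if all `muV μ z = 0`, `μ` killing `W0`, then `z` is a difference modulo `I ^ (j + 1)`;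
* `muV_nat`: naturality in `V`.
-/

set_option autoImplicit false
universe u

open CategoryTheory Limits AlgebraicGeometry TopologicalSpace Opposite
open Groth.Agent.Fdesc.LocGen (ores ores_glue ores_ext ores_ores)
open Groth.Agent.Pic13.H965.Kill Groth.Agent.Pic13.H965.Tens Groth.Agent.Pic13.H965.NilAlg
  Groth.Agent.Pic13.H965.Nil

namespace Groth.Agent.Pic13.H965.NilLin

variable {k : Type u} [Field k] {Y Z : Scheme.{u}} {p : Y ⟶ Spec (CommRingCat.of k)}
  {q : Z ⟶ Spec (CommRingCat.of k)} {i : Z ⟶ Y} (hq : i ≫ p = q)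
  {ι : Type*} {U : ι → Y.Opens}

variable (p U) in
/-- Families of functions on the overlaps. -/
abbrev M0 : Type _ := ∀ a b : ι, F0 p (U a ⊓ U b)

variable (p U) in
/-- Families of functions on the overlaps times `V`. -/
abbrev MT (V : Over (Spec (CommRingCat.of k))) : Type _ := ∀ a b : ι, FT p (U a ⊓ U b) V

variable (U) in
/-- Differences modulo `I ^ (j + 1)`. -/
def W0 (j : ℕ) : Submodule k (M0 p U) where
  carrier := {z | ∃ x : ∀ a, F0 p (U a), ∀ a b,
    z a b - (r0 (inf_le_left : U a ⊓ U b ≤ U a) (x a) - r0 inf_le_right (x b)) ∈ (I0 hq (U a ⊓ U b)) ^ (j + 1)}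
  zero_mem' := ⟨0, fun a b => by simp⟩
  add_mem' := by
    rintro z z' ⟨x, hx⟩ ⟨x', hx'⟩
    refine ⟨x + x', fun a b => ?_⟩
    have h1 := add_mem (hx a b) (hx' a b)
    convert h1 using 1
    simp only [Pi.add_apply, map_add]
    ring
  smul_mem' := by
    rintro c z ⟨x, hx⟩
    refine ⟨c • x, fun a b => ?_⟩
    have h1 := Ideal.mul_mem_left _ (algebraMap k (F0 p (U a ⊓ U b)) c) (hx a b)
    rw [← Algebra.smul_def, smul_sub, smul_sub, ← map_smul, ← map_smul] at h1
    exact h1

variable (p U) in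
/-- The pullback of families. -/
noncomputable def fL (V : Over (Spec (CommRingCat.of k))) : M0 p U →ₗ[k] MT p U V :=
  LinearMap.pi fun a => (LinearMap.pi fun b =>
    (IsScalarTower.toAlgHom k (F0 p (U a ⊓ U b)) (FT p (U a ⊓ U b) V)).toLinearMap ∘ₗ LinearMap.proj b) ∘ₗ
      LinearMap.proj a

lemma fL_apply {V : Over (Spec (CommRingCat.of k))} (m : M0 p U) (a b : ι) :
    fL p U V m a b = pb p (U a ⊓ U b) V (m a b) := rfl

lemma isBaseChange_fL [Finite ι] (V : Over (Spec (CommRingCat.of k))) [IsAffine V.left]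
    (hU : ∀ a b, IsAffineOpen (U a ⊓ U b)) : IsBaseChange (F0 V.hom ⊤) (fL p U V) := by
  refine IsBaseChange.pi _ (fun a => ?_)
  refine IsBaseChange.pi _ (fun b => ?_)
  exact isBaseChange p _ V (hU a b).isCompact (hU a b).isQuasiSeparated

variable (p U) in
/-- The pullback of families, on the members. -/
noncomputable def fL1 (V : Over (Spec (CommRingCat.of k))) : (∀ a, F0 p (U a)) →ₗ[k] (∀ a, FT p (U a) V) :=
  LinearMap.pi fun a =>
    (IsScalarTower.toAlgHom k (F0 p (U a)) (FT p (U a) V)).toLinearMap ∘ₗ LinearMap.proj a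

lemma isBaseChange_fL1 [Finite ι] (V : Over (Spec (CommRingCat.of k))) [IsAffine V.left]
    (hU : ∀ a, IsAffineOpen (U a)) : IsBaseChange (F0 V.hom ⊤) (fL1 p U V) := by
  refine IsBaseChange.pi _ (fun a => ?_)
  exact isBaseChange p _ V (hU a).isCompact (hU a).isQuasiSeparated

variable (p U) in
/-- The difference map. -/
noncomputable def dL (V : Over (Spec (CommRingCat.of k))) :
    (∀ a, FT p (U a) V) →ₗ[F0 V.hom ⊤] MT p U V where
  toFun x a b := rT (inf_le_left : U a ⊓ U b ≤ U a) (x a) - rT inf_le_right (x b)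
  map_add' x y := by
    funext a b
    simp only [Pi.add_apply, map_add]
    ring
  map_smul' c x := by
    funext a b
    simp only [Pi.smul_apply, map_smul, smul_sub, RingHom.id_apply]

variable {V : Over (Spec (CommRingCat.of k))}

lemma dL_apply (x : ∀ a, FT p (U a) V) (a b : ι) :
    dL p U V x a b = rT (inf_le_left : U a ⊓ U b ≤ U a) (x a) - rT inf_le_right (x b) := rfl

lemma dL_fL1 (x : ∀ a, F0 p (U a)) : dL p U V (fL1 p U V x) =
    fL p U V (fun a b => r0 (inf_le_left : U a ⊓ U b ≤ U a) (x a) - r0 inf_le_right (x b)) := by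
  funext a b
  rw [dL_apply, fL_apply, map_sub]
  exact congrArg₂ (· - ·) (rT_pb _ _) (rT_pb _ _)

lemma dL_mem_span [Finite ι] [IsAffine V.left] (hU : ∀ a, IsAffineOpen (U a)) (j : ℕ) (x : ∀ a, FT p (U a) V) :
    dL p U V x ∈ Submodule.span (F0 V.hom ⊤) (fL p U V '' (W0 hq U j)) := by
  refine (isBaseChange_fL1 V hU).inductionOn x
    (motive := fun x => dL p U V x ∈ Submodule.span (F0 V.hom ⊤) (fL p U V '' (W0 hq U j))) ?_ ?_ ?_ ?_
  · rw [map_zero]
    exact zero_mem _
  · intro x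
    rw [dL_fL1]
    exact Submodule.subset_span ⟨_, ⟨x, fun a b => by simp⟩, rfl⟩
  · intro r x hx
    rw [map_smul]
    exact Submodule.smul_mem _ _ hx
  · intro x y hx hy
    rw [map_add]
    exact add_mem hx hy

open Classical in
lemma single_mem_span [IsAffine V.left] (hU : ∀ a b, IsAffineOpen (U a ⊓ U b)) (j : ℕ) (a b : ι)
    {y : FT p (U a ⊓ U b) V} (hy : y ∈ (IT hq (U a ⊓ U b) V) ^ (j + 1)) :
    (Pi.single a (Pi.single b y) : MT p U V) ∈ Submodule.span (F0 V.hom ⊤) (fL p U V '' (W0 hq U j)) := by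
  let s : FT p (U a ⊓ U b) V →ₗ[F0 V.hom ⊤] MT p U V :=
    LinearMap.single (F0 V.hom ⊤) (fun a => ∀ b, FT p (U a ⊓ U b) V) a ∘ₗ
      LinearMap.single (F0 V.hom ⊤) (fun b => FT p (U a ⊓ U b) V) b
  have hs : ∀ y, s y = Pi.single a (Pi.single b y) := fun _ => rfl
  let P := Submodule.span (F0 V.hom ⊤) (fL p U V '' (W0 hq U j))
  suffices h : ∀ t : FT p (U a ⊓ U b) V, s (t * y) ∈ P by
    have := h 1
    rwa [one_mul, hs] at this
  have h0 : y ∈ ((I0 hq (U a ⊓ U b)) ^ (j + 1)).map (pb p (U a ⊓ U b) V) := by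
    rw [Ideal.map_pow]
    exact hy
  refine Submodule.span_induction (p := fun y _ => ∀ t : FT p (U a ⊓ U b) V, s (t * y) ∈ P) ?_ ?_ ?_ ?_ h0
  · rintro _ ⟨w, hw, rfl⟩ t
    refine (isBaseChange p _ V (hU a b).isCompact (hU a b).isQuasiSeparated).inductionOn t
      (motive := fun t => s (t * pb p (U a ⊓ U b) V w) ∈ P) ?_ ?_ ?_ ?_
    · rw [zero_mul, map_zero]
      exact zero_mem _
    · intro m
      change s (pb p (U a ⊓ U b) V m * pb p (U a ⊓ U b) V w) ∈ P
      rw [← map_mul]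
      refine Submodule.subset_span ⟨Pi.single a (Pi.single b (m * w)), ⟨0, fun a' b' => ?_⟩, ?_⟩
      · rw [Pi.zero_apply, Pi.zero_apply, map_zero, map_zero, sub_zero, sub_zero]
        by_cases ha : a' = a
        · subst ha
          rw [Pi.single_eq_same]
          by_cases hb : b' = b
          · subst hb
            rw [Pi.single_eq_same]
            exact Ideal.mul_mem_left _ _ hw
          · rw [Pi.single_eq_of_ne hb]
            exact zero_mem _
        · rw [Pi.single_eq_of_ne ha]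
          exact zero_mem _
      · funext a' b'
        rw [fL_apply, hs]
        by_cases ha : a' = a
        · subst ha
          rw [Pi.single_eq_same, Pi.single_eq_same]
          by_cases hb : b' = b
          · subst hb
            rw [Pi.single_eq_same, Pi.single_eq_same]
          · rw [Pi.single_eq_of_ne hb, Pi.single_eq_of_ne hb, map_zero]
        · rw [Pi.single_eq_of_ne ha, Pi.single_eq_of_ne ha]
          exact map_zero _
    · intro r t ht
      rw [smul_mul_assoc, map_smul]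
      exact Submodule.smul_mem _ _ ht
    · intro t t' ht ht'
      rw [add_mul, map_add]
      exact add_mem ht ht'
  · intro t
    rw [mul_zero, map_zero]
    exact zero_mem _
  · intro y y' _ _ hy hy' t
    rw [mul_add, map_add]
    exact add_mem (hy t) (hy' t)
  · intro c y _ hy t
    rw [smul_eq_mul, ← mul_assoc]
    exact hy _

/-- The elements which are differences modulo `I ^ (j + 1)` are spanned by those of `W0`. -/
lemma mem_span_of_diff [Finite ι] [IsAffine V.left] (hU : ∀ a, IsAffineOpen (U a))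
    (hU' : ∀ a b, IsAffineOpen (U a ⊓ U b)) (j : ℕ) (z : MT p U V) (x : ∀ a, FT p (U a) V)
    (hx : ∀ a b, z a b - (rT (inf_le_left : U a ⊓ U b ≤ U a) (x a) - rT inf_le_right (x b)) ∈
      (IT hq (U a ⊓ U b) V) ^ (j + 1)) :
    z ∈ Submodule.span (F0 V.hom ⊤) (fL p U V '' (W0 hq U j)) := by
  classical
  cases nonempty_fintype ι
  have h1 : z = dL p U V x + ∑ a, ∑ b, Pi.single a (Pi.single b ((z - dL p U V x) a b)) := by
    have h2 : ∑ a, ∑ b, Pi.single a (Pi.single b ((z - dL p U V x) a b)) = z - dL p U V x := by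
      have h3 : ∀ a, ∑ b, (Pi.single a (Pi.single b ((z - dL p U V x) a b)) : MT p U V) =
          Pi.single a ((z - dL p U V x) a) := by
        intro a
        have h4 := map_sum (AddMonoidHom.single (fun a => ∀ b, FT p (U a ⊓ U b) V) a)
          (fun b => (Pi.single b ((z - dL p U V x) a b) : ∀ b, FT p (U a ⊓ U b) V)) Finset.univ
        rw [Finset.univ_sum_single] at h4
        exact h4.symm
      simp_rw [h3]
      exact Finset.univ_sum_single _
    rw [h2]
    abel
  rw [h1]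
  refine add_mem (dL_mem_span hq hU j x) (sum_mem fun a _ => sum_mem fun b _ => ?_)
  exact single_mem_span hq hU' j a b (hx a b)

/-- Converse of `mem_span_of_diff`. -/
lemma exists_of_mem_span (j : ℕ) {z : MT p U V}
    (hz : z ∈ Submodule.span (F0 V.hom ⊤) (fL p U V '' (W0 hq U j))) :
    ∃ x : ∀ a, FT p (U a) V, ∀ a b,
      z a b - (rT (inf_le_left : U a ⊓ U b ≤ U a) (x a) - rT inf_le_right (x b)) ∈
        (IT hq (U a ⊓ U b) V) ^ (j + 1) := by
  refine Submodule.span_induction (p := fun z _ => ∃ x : ∀ a, FT p (U a) V, ∀ a b,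
      z a b - (rT (inf_le_left : U a ⊓ U b ≤ U a) (x a) - rT inf_le_right (x b)) ∈
        (IT hq (U a ⊓ U b) V) ^ (j + 1)) ?_ ?_ ?_ ?_ hz
  · rintro _ ⟨m, ⟨x, hx⟩, rfl⟩
    refine ⟨fun a => pb p (U a) V (x a), fun a b => ?_⟩
    rw [fL_apply, rT_pb, rT_pb, ← map_sub, ← map_sub, IT, ← Ideal.map_pow]
    exact Ideal.mem_map_of_mem _ (hx a b)
  · exact ⟨0, fun a b => by simp⟩
  · rintro z z' _ _ ⟨x, hx⟩ ⟨x', hx'⟩
    refine ⟨x + x', fun a b => ?_⟩
    have h1 := add_mem (hx a b) (hx' a b)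
    convert h1 using 1
    simp only [Pi.add_apply, map_add]
    ring
  · rintro c z _ ⟨x, hx⟩
    refine ⟨c • x, fun a b => ?_⟩
    have h1 := Ideal.mul_mem_left _ (algebraMap (F0 V.hom ⊤) (FT p (U a ⊓ U b) V) c) (hx a b)
    rw [← Algebra.smul_def, smul_sub, smul_sub, ← map_smul, ← map_smul] at h1
    exact h1

/-! ### Functionals -/

section Mu

variable [Finite ι] (hU' : ∀ a b, IsAffineOpen (U a ⊓ U b))

/-- The extension of a functional. -/
noncomputable def muV (hV : IsAffine V.left) (μ : M0 p U →ₗ[k] k) : MT p U V →ₗ[F0 V.hom ⊤] F0 V.hom ⊤ :=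
  (isBaseChange_fL V hU').lift ((Algebra.linearMap k (F0 V.hom ⊤)) ∘ₗ μ)

lemma muV_fL (hV : IsAffine V.left) (μ : M0 p U →ₗ[k] k) (m : M0 p U) :
    muV hU' hV μ (fL p U V m) = algebraMap k (F0 V.hom ⊤) (μ m) :=
  IsBaseChange.lift_eq _ _ _

lemma muV_eq_zero (hV : IsAffine V.left) (hU : ∀ a, IsAffineOpen (U a)) (μ : M0 p U →ₗ[k] k) {j : ℕ}
    (hμ : W0 hq U j ≤ LinearMap.ker μ) (z : MT p U V) (x : ∀ a, FT p (U a) V)
    (hx : ∀ a b, z a b - (rT (inf_le_left : U a ⊓ U b ≤ U a) (x a) - rT inf_le_right (x b)) ∈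
      (IT hq (U a ⊓ U b) V) ^ (j + 1)) : muV hU' hV μ z = 0 := by
  refine Submodule.span_induction (p := fun z _ => muV hU' hV μ z = 0) ?_ (map_zero _) ?_ ?_
    (mem_span_of_diff hq hU hU' j z x hx)
  · rintro _ ⟨m, hm, rfl⟩
    rw [muV_fL, LinearMap.mem_ker.1 (hμ hm), map_zero]
  · intro y y' _ _ hy hy'
    rw [map_add, hy, hy', add_zero]
  · intro c y _ hy
    rw [map_smul, hy, smul_zero]

lemma exists_diff (hV : IsAffine V.left) {j : ℕ} (z : MT p U V)
    (hz : ∀ μ : M0 p U →ₗ[k] k, W0 hq U j ≤ LinearMap.ker μ → muV hU' hV μ z = 0) :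
    ∃ x : ∀ a, FT p (U a) V, ∀ a b,
      z a b - (rT (inf_le_left : U a ⊓ U b ≤ U a) (x a) - rT inf_le_right (x b)) ∈
        (IT hq (U a ⊓ U b) V) ^ (j + 1) :=
  exists_of_mem_span hq j (mem_span_of_functionals (isBaseChange_fL V hU') (W0 hq U j) z hz)

lemma muV_nat {W : Over (Spec (CommRingCat.of k))} (a : W ⟶ V) (hV : IsAffine V.left) (hW : IsAffine W.left)
    (μ : M0 p U →ₗ[k] k) (z : MT p U V) :
    muV hU' hW μ (fun b c => aT p (U b ⊓ U c) a (z b c)) = (a.left.appTop (muV hU' hV μ z) : Γ(W.left, ⊤)) := by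
  refine (isBaseChange_fL V hU').inductionOn z (motive := fun z =>
    muV hU' hW μ (fun b c => aT p (U b ⊓ U c) a (z b c)) = (a.left.appTop (muV hU' hV μ z) : Γ(W.left, ⊤))) ?_ ?_ ?_ ?_
  · have h1 : (fun b c => aT p (U b ⊓ U c) a ((0 : MT p U V) b c)) = 0 := by
      funext b c
      exact map_zero _
    rw [h1, map_zero, map_zero]
    exact (map_zero _).symm
  · intro m
    have h1 : (fun b c => aT p (U b ⊓ U c) a (fL p U V m b c)) = fL p U W m := by
      funext b c
      rw [fL_apply, fL_apply, aT_pb]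
    rw [h1, muV_fL, muV_fL]
    have h2 := appTop_kΓ a (μ m)
    have h3 : ∀ T : Over (Spec (CommRingCat.of k)), kΓ T (μ m) = algebraMap k (F0 T.hom ⊤) (μ m) := by
      intro T
      have h4 : T.hom.appTop = T.hom.appLE ⊤ ⊤ le_top := (Scheme.Hom.appLE_eq_app ..).symm
      change ((Scheme.ΓSpecIso (CommRingCat.of k)).inv ≫ T.hom.appTop).hom (μ m) =
        ((Scheme.ΓSpecIso (CommRingCat.of k)).inv ≫ T.hom.appLE ⊤ ⊤ le_top).hom (μ m)
      rw [h4]
    rw [h3, h3] at h2
    exact h2.symm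
  · intro r z hz
    have h1 : (fun b c => aT p (U b ⊓ U c) a ((r • z) b c)) =
        (show F0 W.hom ⊤ from a.left.appTop r) • (fun b c => aT p (U b ⊓ U c) a (z b c)) := by
      funext b c
      change aT p (U b ⊓ U c) a (r • z b c) = (show F0 W.hom ⊤ from a.left.appTop r) • aT p (U b ⊓ U c) a (z b c)
      rw [Algebra.smul_def, Algebra.smul_def, map_mul]
      congr 1
      exact aT_ρ a r
    rw [h1, map_smul, map_smul, hz]
    exact (map_mul _ _ _).symm
  · intro z z' hz hz'
    have h1 : (fun b c => aT p (U b ⊓ U c) a ((z + z') b c)) =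
        (fun b c => aT p (U b ⊓ U c) a (z b c)) + (fun b c => aT p (U b ⊓ U c) a (z' b c)) := by
      funext b c
      exact map_add _ _ _
    rw [h1, map_add, map_add, hz, hz']
    exact (map_add _ _ _).symm

end Mu

end Groth.Agent.Pic13.H965.NilLin
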