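import Groth.Agent.Ega3A.PicLocBase
import Mathlib.CategoryTheory.Monoidal.Cartesian.Over
import Mathlib.CategoryTheory.Monoidal.Cartesian.Grp

/-!
# A scheme representing the relative Picard functor is a group scheme

`hφ : PicRel.IsRelPic f P φ`; `cm φ c : T ⟶ P` for `c : Pic X_T`.

* `exists_grpObj` : `P` is a group object with `cm (c * d) = cm c * cm d`, `cm 1 = 1`;
* `isMonHom_of_natural` : a morphism `m : P ⟶ P'` compatible with homomorphisms `Pic X_T →* Pic X'_T` is a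
  homomorphism.
-/

set_option autoImplicit false
universe u

open CategoryTheory MonoidalCategory CartesianMonoidalCategory MonObj GrpObj Limits AlgebraicGeometry Opposite
open Groth.Agent.Ega3A.PicDiv Groth.Agent.Ega3A.PicEtSh Groth.Agent.Grpsch.PicGrp
open Groth.Agent.Ega3A.PicSheaf Groth.Agent.Ega3A.PicLocBase Groth.Agent.Fga.RigGrp

namespace Groth.Agent.Pic13.H965.RelGrp

section Basic

variable {X S : Scheme.{u}} {f : X ⟶ S} {P : Over S}
  (φ : ∀ T : Over S, PicF.Cl (PicF.XT f T) → (T ⟶ P))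

/-- The classifying map of a class. -/
noncomputable def cm {T : Over S} (c : Pic (PicF.XT f T)) : T ⟶ P := φ T (toCl c)

variable {φ}
variable (hφ : PicRel.IsRelPic f P φ)

include hφ

lemma cm_pu {T T' : Over S} (g : T' ⟶ T) (c : Pic (PicF.XT f T)) :
    cm φ (pu f g c) = g ≫ cm φ c := nat' hφ g c

lemma cm_eq_iff {T : Over S} {c c' : Pic (PicF.XT f T)} : cm φ c = cm φ c' ↔ LocEq f T c c' :=
  (locEq_iff hφ c c').symm

lemma exists_cm {T : Over S} (g : T ⟶ P) :
    ∃ (𝒰 : ECov T) (c : ∀ i, Pic (PicF.XT f (𝒰.V i))), ∀ i, cm φ (c i) = 𝒰.j i ≫ g :=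
  exists_local hφ g

/-- Common local presentation of a finite (here: arbitrary product over a fintype) family of maps. -/
lemma exists_cm₂ {T : Over S} (g₁ g₂ : T ⟶ P) :
    ∃ (𝒰 : ECov T) (c d : ∀ i, Pic (PicF.XT f (𝒰.V i))), ∀ i, cm φ (c i) = 𝒰.j i ≫ g₁ ∧
      cm φ (d i) = 𝒰.j i ≫ g₂ := by
  obtain ⟨𝒰, c, hc⟩ := exists_cm hφ g₁
  have := fun i => exists_cm hφ (𝒰.j i ≫ g₂)
  choose 𝒱 d hd using this
  refine ⟨LocEq.bind 𝒰 𝒱, fun p => pu f ((𝒱 p.1).j p.2) (c p.1), fun p => d p.1 p.2, fun p => ⟨?_, ?_⟩⟩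
  · refine (cm_pu hφ ((𝒱 p.1).j p.2) (c p.1)).trans ?_
    rw [hc]
    exact (Category.assoc _ _ _).symm
  · exact (hd p.1 p.2).trans (Category.assoc _ _ _).symm

/-- A natural binary operation on classes, compatible with local equality, induces one on maps to `P`. -/
lemma exists_bin (F : ∀ T : Over S, Pic (PicF.XT f T) → Pic (PicF.XT f T) → Pic (PicF.XT f T))
    (hF : ∀ {T T' : Over S} (g : T' ⟶ T) (c d : Pic (PicF.XT f T)),
      pu f g (F T c d) = F T' (pu f g c) (pu f g d))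
    (hF' : ∀ {T : Over S} {c c' d d' : Pic (PicF.XT f T)}, LocEq f T c c' → LocEq f T d d' →
      LocEq f T (F T c d) (F T c' d'))
    {T : Over S} (g₁ g₂ : T ⟶ P) : ∃ g₃ : T ⟶ P, ∀ (W : Over S) (w : W ⟶ T)
      (c d : Pic (PicF.XT f W)), cm φ c = w ≫ g₁ → cm φ d = w ≫ g₂ → cm φ (F W c d) = w ≫ g₃ := by
  obtain ⟨𝒰, c, d, h⟩ := exists_cm₂ hφ g₁ g₂
  obtain ⟨g₃, hg₃⟩ := glue_hom_ecov 𝒰 (fun i => cm φ (F _ (c i) (d i))) (by
    intro i k W a b hab
    rw [← cm_pu hφ, ← cm_pu hφ, hF, hF, cm_eq_iff hφ]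
    apply hF'
    · rw [← cm_eq_iff hφ, cm_pu hφ, cm_pu hφ, (h i).1, (h k).1, reassoc_of% hab]
    · rw [← cm_eq_iff hφ, cm_pu hφ, cm_pu hφ, (h i).2, (h k).2, reassoc_of% hab])
  refine ⟨g₃, fun W w c' d' hc' hd' => ?_⟩
  obtain ⟨𝒱, h𝒱⟩ := exists_pull 𝒰 w
  apply hom_ext_ecov 𝒱
  intro k
  obtain ⟨i, s, hs⟩ := h𝒱 k
  rw [reassoc_of% hs, hg₃, ← cm_pu hφ, ← cm_pu hφ, hF, hF, cm_eq_iff hφ]
  apply hF'
  · rw [← cm_eq_iff hφ, cm_pu hφ, cm_pu hφ, (h i).1, hc', reassoc_of% hs]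
  · rw [← cm_eq_iff hφ, cm_pu hφ, cm_pu hφ, (h i).2, hd', reassoc_of% hs]

lemma exists_un (F : ∀ T : Over S, Pic (PicF.XT f T) → Pic (PicF.XT f T))
    (hF : ∀ {T T' : Over S} (g : T' ⟶ T) (c : Pic (PicF.XT f T)),
      pu f g (F T c) = F T' (pu f g c))
    (hF' : ∀ {T : Over S} {c c' : Pic (PicF.XT f T)}, LocEq f T c c' →
      LocEq f T (F T c) (F T c'))
    {T : Over S} (g₁ : T ⟶ P) : ∃ g₃ : T ⟶ P, ∀ (W : Over S) (w : W ⟶ T)
      (c : Pic (PicF.XT f W)), cm φ c = w ≫ g₁ → cm φ (F W c) = w ≫ g₃ := by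
  obtain ⟨g₃, h⟩ := exists_bin hφ (fun T c _ => F T c) (fun g c _ => hF g c)
    (fun h _ => hF' h) g₁ g₁
  exact ⟨g₃, fun W w c hc => h W w c c hc hc⟩

/-- two maps out of `T` agree if they agree on a covering where the maps `g₁ g₂ g₃` have classes. -/
lemma hom_ext₃ {T : Over S} {Z : Over S} (g₁ g₂ g₃ : T ⟶ P) (a b : T ⟶ Z)
    (h : ∀ (W : Over S) (w : W ⟶ T) (c₁ c₂ c₃ : Pic (PicF.XT f W)), cm φ c₁ = w ≫ g₁ →
      cm φ c₂ = w ≫ g₂ → cm φ c₃ = w ≫ g₃ → w ≫ a = w ≫ b) : a = b := by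
  obtain ⟨𝒰, c, d, h1⟩ := exists_cm₂ hφ g₁ g₂
  apply hom_ext_ecov 𝒰
  intro i
  obtain ⟨𝒱, e, h2⟩ := exists_cm hφ (𝒰.j i ≫ g₃)
  apply hom_ext_ecov 𝒱
  intro k
  rw [← Category.assoc, ← Category.assoc]
  refine h _ _ (pu f (𝒱.j k) (c i)) (pu f (𝒱.j k) (d i)) (e k) ?_ ?_ ?_
  · rw [cm_pu hφ, (h1 i).1, Category.assoc]
  · rw [cm_pu hφ, (h1 i).2, Category.assoc]
  · rw [h2, Category.assoc]

/-- The group structure. -/
theorem exists_grpObj : ∃ (_ : GrpObj P),
    (∀ (T : Over S) (c d : Pic (PicF.XT f T)), cm φ (c * d) = cm φ c * cm φ d) ∧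
    (∀ (T : Over S), cm φ (1 : Pic (PicF.XT f T)) = 1) ∧ IsCommMonObj P := by
  obtain ⟨m, hm⟩ := exists_bin hφ (fun T c d => c * d) (fun g c d => map_mul _ _ _)
    (fun h h' => h.mul h') (fst P P) (snd P P)
  obtain ⟨i, hi⟩ := exists_un hφ (fun T c => c⁻¹) (fun g c => map_inv _ _)
    (fun h => h.inv) (𝟙 P)
  let e : 𝟙_ (Over S) ⟶ P := cm φ (1 : Pic (PicF.XT f (𝟙_ (Over S))))
  have he : ∀ (W : Over S), toUnit W ≫ e = cm φ (1 : Pic (PicF.XT f W)) := by
    intro W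
    rw [← cm_pu hφ, map_one]
  have hm' : ∀ (W : Over S) (c d : Pic (PicF.XT f W)),
      lift (cm φ c) (cm φ d) ≫ m = cm φ (c * d) := by
    intro W c d
    exact (hm W (lift (cm φ c) (cm φ d)) c d (by rw [lift_fst]) (by rw [lift_snd])).symm
  have hi' : ∀ (W : Over S) (c : Pic (PicF.XT f W)), cm φ c ≫ i = cm φ c⁻¹ := by
    intro W c
    exact (hi W (cm φ c) c (by rw [Category.comp_id])).symm
  let G : GrpObj P :=
    { one := e
      mul := m
      inv := i
      one_mul := by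
        refine hom_ext₃ hφ (snd _ _) (snd _ _) (snd _ _) _ _ (fun W w c₁ _ _ h1 _ _ => ?_)
        have hw : w ≫ (e ▷ P) = lift (cm φ (1 : Pic (PicF.XT f W))) (cm φ c₁) := by
          apply CartesianMonoidalCategory.hom_ext
          · rw [Category.assoc, whiskerRight_fst, lift_fst, ← Category.assoc, ← he]
            congr 1
            exact toUnit_unique _ _
          · rw [Category.assoc, whiskerRight_snd, lift_snd, h1]
        rw [← Category.assoc, hw, hm', _root_.one_mul, h1]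
        congr 1
      mul_one := by
        refine hom_ext₃ hφ (fst _ _) (fst _ _) (fst _ _) _ _ (fun W w c₁ _ _ h1 _ _ => ?_)
        have hw : w ≫ (P ◁ e) = lift (cm φ c₁) (cm φ (1 : Pic (PicF.XT f W))) := by
          apply CartesianMonoidalCategory.hom_ext
          · rw [Category.assoc, whiskerLeft_fst, lift_fst, h1]
          · rw [Category.assoc, whiskerLeft_snd, lift_snd, ← Category.assoc, ← he]
            congr 1
            exact toUnit_unique _ _
        rw [← Category.assoc, hw, hm', _root_.mul_one, h1]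
        congr 1
      mul_assoc := by
        refine hom_ext₃ hφ (fst _ _ ≫ fst _ _) (fst _ _ ≫ snd _ _) (snd _ _) _ _
          (fun W w c₁ c₂ c₃ h1 h2 h3 => ?_)
        have hw1 : w ≫ (m ▷ P) = lift (cm φ (c₁ * c₂)) (cm φ c₃) := by
          apply CartesianMonoidalCategory.hom_ext
          · rw [Category.assoc, whiskerRight_fst, lift_fst, ← Category.assoc, ← hm']
            congr 1
            apply CartesianMonoidalCategory.hom_ext
            · rw [lift_fst, h1, Category.assoc]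
            · rw [lift_snd, h2, Category.assoc]
          · rw [Category.assoc, whiskerRight_snd, lift_snd, h3]
        have hw2 : w ≫ (α_ P P P).hom ≫ (P ◁ m) = lift (cm φ c₁) (cm φ (c₂ * c₃)) := by
          apply CartesianMonoidalCategory.hom_ext
          · rw [lift_fst, h1]
            simp
          · rw [lift_snd, ← hm']
            simp only [Category.assoc, whiskerLeft_snd]
            rw [← Category.assoc, ← Category.assoc]
            congr 1
            apply CartesianMonoidalCategory.hom_ext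
            · rw [lift_fst, h2]
              simp
            · rw [lift_snd, h3]
              simp
        have hw2' := congrArg (· ≫ m) hw2
        simp only [Category.assoc] at hw2'
        rw [hw2', ← Category.assoc, hw1, hm', hm', _root_.mul_assoc]
      left_inv := by
        refine hom_ext₃ hφ (𝟙 P) (𝟙 P) (𝟙 P) _ _ (fun W w c₁ _ _ h1 _ _ => ?_)
        rw [Category.comp_id] at h1
        subst h1
        have hw : cm φ c₁ ≫ lift i (𝟙 P) = lift (cm φ c₁⁻¹) (cm φ c₁) := by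
          rw [comp_lift, hi', Category.comp_id]
        rw [← Category.assoc, hw, hm', inv_mul_cancel, ← Category.assoc]
        exact (he W).symm.trans (congrArg (· ≫ e) (toUnit_unique _ _))
      right_inv := by
        refine hom_ext₃ hφ (𝟙 P) (𝟙 P) (𝟙 P) _ _ (fun W w c₁ _ _ h1 _ _ => ?_)
        rw [Category.comp_id] at h1
        subst h1
        have hw : cm φ c₁ ≫ lift (𝟙 P) i = lift (cm φ c₁) (cm φ c₁⁻¹) := by
          rw [comp_lift, hi', Category.comp_id]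
        rw [← Category.assoc, hw, hm', mul_inv_cancel, ← Category.assoc]
        exact (he W).symm.trans (congrArg (· ≫ e) (toUnit_unique _ _)) }
  refine ⟨G, fun T c d => (hm' T c d).symm, fun T => (he T).symm, ⟨?_⟩⟩
  refine hom_ext₃ hφ (fst _ _) (snd _ _) (snd _ _) _ _ (fun W w c₁ c₂ _ h1 h2 _ => ?_)
  have hw : w ≫ (β_ P P).hom = lift (cm φ c₂) (cm φ c₁) := by
    apply CartesianMonoidalCategory.hom_ext
    · rw [lift_fst, h2]; simp
    · rw [lift_snd, h1]; simp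
  have hw2 : w = lift (cm φ c₁) (cm φ c₂) := by
    apply CartesianMonoidalCategory.hom_ext
    · rw [lift_fst, h1]
    · rw [lift_snd, h2]
  change w ≫ (β_ P P).hom ≫ m = w ≫ m
  rw [← Category.assoc, hw, hm', hw2, hm', _root_.mul_comm]

end Basic

/-- Compatibility with homomorphisms on classes makes `m` a homomorphism. -/
theorem isMonHom_of_natural {X X' S : Scheme.{u}} {f : X ⟶ S} {f' : X' ⟶ S} {P P' : Over S}
    {φ : ∀ T : Over S, PicF.Cl (PicF.XT f T) → (T ⟶ P)} (hφ : PicRel.IsRelPic f P φ)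
    {φ' : ∀ T : Over S, PicF.Cl (PicF.XT f' T) → (T ⟶ P')}
    [GrpObj P] [GrpObj P']
    (h1 : ∀ (T : Over S) (c d : Pic (PicF.XT f T)), cm φ (c * d) = cm φ c * cm φ d)
    (h1' : ∀ (T : Over S) (c d : Pic (PicF.XT f' T)), cm φ' (c * d) = cm φ' c * cm φ' d)
    (F : ∀ T : Over S, Pic (PicF.XT f T) →* Pic (PicF.XT f' T)) (m : P ⟶ P')
    (hm : ∀ (T : Over S) (c : Pic (PicF.XT f T)), cm φ' (F T c) = cm φ c ≫ m) : IsMonHom m := by
  have key : μ[P] ≫ m = (m ⊗ₘ m) ≫ μ[P'] := by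
    refine hom_ext₃ hφ (fst _ _) (snd _ _) (snd _ _) _ _ (fun W w c₁ c₂ _ h h' _ => ?_)
    have hw2 : w = lift (cm φ c₁) (cm φ c₂) := by
      apply CartesianMonoidalCategory.hom_ext
      · rw [lift_fst, h]
      · rw [lift_snd, h']
    have h3 : lift (cm φ c₁) (cm φ c₂) ≫ μ[P] = cm φ (c₁ * c₂) := (h1 W c₁ c₂).symm
    have h4 : lift (cm φ' (F W c₁)) (cm φ' (F W c₂)) ≫ μ[P'] = cm φ' (F W c₁ * F W c₂) :=
      (h1' W _ _).symm
    rw [hw2, ← Category.assoc, h3, ← hm, map_mul, ← h4, hm, hm, ← Category.assoc]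
    congr 1
    rw [lift_map]
  refine ⟨?_, key⟩
  -- unit
  have h2 : ((η[P] ≫ m : 𝟙_ (Over S) ⟶ P')) * (η[P] ≫ m) = η[P] ≫ m := by
    have h5 : (η[P] : 𝟙_ (Over S) ⟶ P) * η[P] = η[P] := by
      rw [one_eq_one, _root_.mul_one]
    have h6 : ((η[P] : 𝟙_ (Over S) ⟶ P) * η[P]) ≫ m = (η[P] ≫ m) * (η[P] ≫ m) := by
      rw [Hom.mul_def, Category.assoc, key, ← Category.assoc, lift_map, Hom.mul_def]
    rw [← h6, h5]
  rw [mul_eq_left] at h2
  rw [h2, one_eq_one]

end Groth.Agent.Pic13.H965.RelGrp
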