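import Groth.Agent.Sga3C.Affinization
import Groth.Agent.Pic13.H965.Kill
import Mathlib.RingTheory.IsTensorProduct
import Mathlib.Algebra.Category.Ring.Constructions

/-!
# Functions on `Y × V` over a field

`p : Y ⟶ Spec k`, `V` affine over `k`, `U` a qcqs open of `Y`: `Γ(Y_V, U_V) = Γ(Y, U) ⊗ Γ(V)`.
-/

set_option autoImplicit false
universe u

open CategoryTheory Limits AlgebraicGeometry TopologicalSpace Opposite

namespace Groth.Agent.Pic13.H965.Tens

variable {k : Type u} [Field k] {Y : Scheme.{u}}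

/-- The structure map `k → Γ(Y, U)`. -/
noncomputable def kY (p : Y ⟶ Spec (CommRingCat.of k)) (U : Y.Opens) : k →+* Γ(Y, U) :=
  ((Scheme.ΓSpecIso (CommRingCat.of k)).inv ≫ p.appLE ⊤ U le_top).hom

/-- `Γ(Y, U)` as a `k`-algebra. -/
def F0 (_ : Y ⟶ Spec (CommRingCat.of k)) (U : Y.Opens) : Type u := Γ(Y, U)

variable (p : Y ⟶ Spec (CommRingCat.of k)) (U : Y.Opens) (V : Over (Spec (CommRingCat.of k)))

noncomputable instance : CommRing (F0 p U) := inferInstanceAs (CommRing Γ(Y, U))
noncomputable instance : Algebra k (F0 p U) := (kY p U).toAlgebra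

/-- The open `U × V` of `Y × V`. -/
noncomputable abbrev opT : (PicF.XT p V).Opens := pullback.fst p V.hom ⁻¹ᵁ U

/-- `Γ(Y × V, U × V)` as an algebra over `k`, `Γ(Y, U)` and `Γ(V)`. -/
noncomputable def FT : Type u := Γ(PicF.XT p V, opT p U V)

noncomputable instance : CommRing (FT p U V) := inferInstanceAs (CommRing Γ(PicF.XT p V, opT p U V))

/-- `Γ(V) → Γ(Y × V, U × V)`. -/
noncomputable def ρ : F0 V.hom ⊤ →+* FT p U V := ((pullback.snd p V.hom).appLE ⊤ (opT p U V) le_top).hom

/-- `Γ(Y, U) → Γ(Y × V, U × V)`. -/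
noncomputable def pb : F0 p U →+* FT p U V := ((pullback.fst p V.hom).app U).hom

lemma pb_eq : pb p U V = ((pullback.fst p V.hom).appLE U (opT p U V) le_rfl).hom := by
  rw [pb, Scheme.Hom.app_eq_appLE]

noncomputable instance algR : Algebra (F0 V.hom ⊤) (FT p U V) := (ρ p U V).toAlgebra
noncomputable instance algY : Algebra (F0 p U) (FT p U V) := (pb p U V).toAlgebra
noncomputable instance algk : Algebra k (FT p U V) := ((ρ p U V).comp (kY V.hom ⊤)).toAlgebra
instance : IsScalarTower k (F0 V.hom ⊤) (FT p U V) := .of_algebraMap_eq' rfl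

lemma pb_comp_kY : (pb p U V).comp (kY p U) = (ρ p U V).comp (kY V.hom ⊤) := by
  have h : p.appLE ⊤ U le_top ≫ (pullback.fst p V.hom).appLE U (opT p U V) le_rfl =
      V.hom.appLE ⊤ ⊤ le_top ≫ (pullback.snd p V.hom).appLE ⊤ (opT p U V) le_top := by
    rw [Scheme.Hom.appLE_comp_appLE, Scheme.Hom.appLE_comp_appLE]
    congr 1
    exact pullback.condition
  rw [pb_eq]
  have h' : ((Scheme.ΓSpecIso (CommRingCat.of k)).inv ≫ p.appLE ⊤ U le_top) ≫
      (pullback.fst p V.hom).appLE U (opT p U V) le_rfl =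
      ((Scheme.ΓSpecIso (CommRingCat.of k)).inv ≫ V.hom.appLE ⊤ ⊤ le_top) ≫
      (pullback.snd p V.hom).appLE ⊤ (opT p U V) le_top := by
    rw [Category.assoc, Category.assoc, h]
  exact congrArg CommRingCat.Hom.hom h'

instance : IsScalarTower k (F0 p U) (FT p U V) := .of_algebraMap_eq' (pb_comp_kY p U V).symm

theorem isPushout [IsAffine V.left] (hU : IsCompact (U : Set Y)) (hU' : IsQuasiSeparated (U : Set Y)) :
    Algebra.IsPushout k (F0 V.hom ⊤) (F0 p U) (FT p U V) := by
  have H : IsPullback (pullback.fst p V.hom) (pullback.snd p V.hom) p V.hom := IsPullback.of_hasPullback _ _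
  have h1 := isIso_pushoutSection_of_isCompact_of_flat_right_of_ringHomFlat (US := ⊤) (UT := ⊤) (UX := U)
    (UY := opT p U V) H (by simp) (by simp) (by simp) (isAffineOpen_top _) CompactSpace.isCompact_univ
    isQuasiSeparated_univ hU hU' (Sga3C.Affinization.flat_of_field k _)
  have h2 := (isIso_pushoutSection_iff ..).mp h1
  have h3 : IsPushout (CommRingCat.ofHom (algebraMap k (F0 V.hom ⊤))) (CommRingCat.ofHom (algebraMap k (F0 p U)))
      (CommRingCat.ofHom (algebraMap (F0 V.hom ⊤) (FT p U V)))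
      (CommRingCat.ofHom (algebraMap (F0 p U) (FT p U V))) := by
    refine IsPushout.of_iso h2.flip (Scheme.ΓSpecIso (CommRingCat.of k)) (Iso.refl _) (Iso.refl _)
      (Iso.refl _) ?_ ?_ ?_ ?_
    · refine (Category.comp_id _).trans (Eq.symm ?_)
      exact Iso.hom_inv_id_assoc (Scheme.ΓSpecIso (CommRingCat.of k)) _
    · refine (Category.comp_id _).trans (Eq.symm ?_)
      exact Iso.hom_inv_id_assoc (Scheme.ΓSpecIso (CommRingCat.of k)) _
    · exact (Category.comp_id _).trans (Category.id_comp _).symm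
    · refine (Category.comp_id _).trans (Eq.trans ?_ (Category.id_comp _).symm)
      change _ = CommRingCat.ofHom (pb p U V)
      rw [pb_eq]
      rfl
  exact CommRingCat.isPushout_iff_isPushout.1 h3

theorem isBaseChange [IsAffine V.left] (hU : IsCompact (U : Set Y)) (hU' : IsQuasiSeparated (U : Set Y)) :
    IsBaseChange (F0 V.hom ⊤) (IsScalarTower.toAlgHom k (F0 p U) (FT p U V)).toLinearMap :=
  (isPushout p U V hU hU').out

/-! ### Restriction -/

variable {p U V}

/-- Restriction of functions on `Y`. -/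
noncomputable def r0 {U U' : Y.Opens} (h : U' ≤ U) : F0 p U →ₐ[k] F0 p U' :=
  { (Y.presheaf.map (homOfLE h).op).hom with
    commutes' := fun x => by
      have h1 : ((Scheme.ΓSpecIso (CommRingCat.of k)).inv ≫ p.appLE ⊤ U le_top) ≫ Y.presheaf.map (homOfLE h).op =
          (Scheme.ΓSpecIso (CommRingCat.of k)).inv ≫ p.appLE ⊤ U' le_top := by
        rw [Category.assoc, Scheme.Hom.appLE_map]
      exact congr(($h1).hom x) }

/-- Restriction of functions on `Y × V`. -/
noncomputable def rT {U U' : Y.Opens} (h : U' ≤ U) : FT p U V →ₐ[F0 V.hom ⊤] FT p U' V :=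
  { ((PicF.XT p V).presheaf.map (homOfLE ((pullback.fst p V.hom).preimage_mono h)).op).hom with
    commutes' := fun x => by
      have h1 : (pullback.snd p V.hom).appLE ⊤ (opT p U V) le_top ≫
          (PicF.XT p V).presheaf.map (homOfLE ((pullback.fst p V.hom).preimage_mono h)).op =
          (pullback.snd p V.hom).appLE ⊤ (opT p U' V) le_top := Scheme.Hom.appLE_map _ _ _
      exact congr(($h1).hom x) }

lemma rT_pb {U U' : Y.Opens} (h : U' ≤ U) (b : F0 p U) : rT (V := V) h (pb p U V b) = pb p U' V (r0 h b) :=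
  congr($((pullback.fst p V.hom).naturality (homOfLE h).op) b).symm

lemma rT_ρ {U U' : Y.Opens} (h : U' ≤ U) (r : F0 V.hom ⊤) : rT h (ρ p U V r) = ρ p U' V r :=
  (rT h).commutes r

/-! ### Base change in `V` -/

section Pull

variable {W W' : Over (Spec (CommRingCat.of k))} (a : W ⟶ V)

lemma XTmap_preimage : PicF.XTmap p a ⁻¹ᵁ opT p U V = opT p U W := by
  have h : PicF.XTmap p a ≫ pullback.fst p V.hom = pullback.fst p W.hom :=
    Ega3A.PicLocBase.XTmap_fst' p a
  change (PicF.XTmap p a ≫ pullback.fst p V.hom) ⁻¹ᵁ U = _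
  rw [h]

variable (p U) in
/-- Pullback of functions along `Y × W → Y × V`. -/
noncomputable def aT : FT p U V →+* FT p U W :=
  ((PicF.XTmap p a).appLE (opT p U V) (opT p U W) (XTmap_preimage a).ge).hom

lemma aT_pb (b : F0 p U) : aT p U a (pb p U V b) = pb p U W b := by
  rw [pb_eq, pb_eq]
  have h1 : (pullback.fst p V.hom).appLE U (opT p U V) le_rfl ≫
      (PicF.XTmap p a).appLE (opT p U V) (opT p U W) (XTmap_preimage a).ge =
      (pullback.fst p W.hom).appLE U (opT p U W) le_rfl := by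
    rw [Scheme.Hom.appLE_comp_appLE]
    congr 1
    exact Ega3A.PicLocBase.XTmap_fst' p a
  exact congr(($h1).hom b)

lemma aT_ρ (r : F0 V.hom ⊤) : aT p U a (ρ p U V r) = ρ p U W (a.left.appTop r : Γ(W.left, ⊤)) := by
  have h1 : (pullback.snd p V.hom).appLE ⊤ (opT p U V) le_top ≫
      (PicF.XTmap p a).appLE (opT p U V) (opT p U W) (XTmap_preimage a).ge =
      a.left.appTop ≫ (pullback.snd p W.hom).appLE ⊤ (opT p U W) le_top := by
    have h2 : a.left.appTop = a.left.appLE ⊤ ⊤ le_top := (Scheme.Hom.appLE_eq_app ..).symm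
    rw [Scheme.Hom.appLE_comp_appLE, h2]
    refine Eq.trans ?_ (Scheme.Hom.appLE_comp_appLE _ _ _ _ _ _ _).symm
    congr 1
    exact Ega3A.PicLocBase.XTmap_snd' p a
  exact congr(($h1).hom r)

lemma aT_rT {U U' : Y.Opens} (h : U' ≤ U) (x : FT p U V) : aT p U' a (rT h x) = rT h (aT p U a x) := by
  have h1 : (PicF.XT p V).presheaf.map (homOfLE ((pullback.fst p V.hom).preimage_mono h)).op ≫
      (PicF.XTmap p a).appLE (opT p U' V) (opT p U' W) (XTmap_preimage a).ge =
      (PicF.XTmap p a).appLE (opT p U V) (opT p U W) (XTmap_preimage a).ge ≫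
      (PicF.XT p W).presheaf.map (homOfLE ((pullback.fst p W.hom).preimage_mono h)).op := by
    rw [Scheme.Hom.map_appLE, Scheme.Hom.appLE_map]
  exact congr(($h1).hom x)

end Pull

/-! ### Restriction to a subscheme -/

section Sub

open Kill

variable {Z : Scheme.{u}} {q : Z ⟶ Spec (CommRingCat.of k)} {i : Z ⟶ Y} (hq : i ≫ p = q)

variable (U) in
/-- Pullback of functions along `Z → Y`. -/
noncomputable def i0 : F0 p U →ₐ[k] F0 q (i ⁻¹ᵁ U) :=
  { (i.app U).hom with
    commutes' := fun x => by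
      have h1 : ((Scheme.ΓSpecIso (CommRingCat.of k)).inv ≫ p.appLE ⊤ U le_top) ≫ i.app U =
          (Scheme.ΓSpecIso (CommRingCat.of k)).inv ≫ q.appLE ⊤ (i ⁻¹ᵁ U) le_top := by
        rw [Category.assoc, Scheme.Hom.app_eq_appLE, Scheme.Hom.appLE_comp_appLE]
        congr 2
      exact congr(($h1).hom x) }

include hq in
lemma bc_preimage : bc hq V ⁻¹ᵁ opT p U V = opT q (i ⁻¹ᵁ U) V := by
  change (bc hq V ≫ pullback.fst p V.hom) ⁻¹ᵁ U = (pullback.fst q V.hom ≫ i) ⁻¹ᵁ U
  rw [bc_fst]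

variable (U V) in
/-- Pullback of functions along `Z × V → Y × V`. -/
noncomputable def iT : FT p U V →ₐ[F0 V.hom ⊤] FT q (i ⁻¹ᵁ U) V :=
  { ((bc hq V).appLE (opT p U V) (opT q (i ⁻¹ᵁ U) V) (bc_preimage hq).ge).hom with
    commutes' := fun x => by
      have h1 : (pullback.snd p V.hom).appLE ⊤ (opT p U V) le_top ≫
          (bc hq V).appLE (opT p U V) (opT q (i ⁻¹ᵁ U) V) (bc_preimage hq).ge =
          (pullback.snd q V.hom).appLE ⊤ (opT q (i ⁻¹ᵁ U) V) le_top := by
        rw [Scheme.Hom.appLE_comp_appLE]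
        congr 1
        exact bc_snd hq V
      exact congr(($h1).hom x) }

lemma iT_pb (b : F0 p U) : iT U V hq (pb p U V b) = pb q (i ⁻¹ᵁ U) V (i0 U hq b) := by
  rw [pb_eq, pb_eq]
  have h1 : (pullback.fst p V.hom).appLE U (opT p U V) le_rfl ≫
      (bc hq V).appLE (opT p U V) (opT q (i ⁻¹ᵁ U) V) (bc_preimage hq).ge =
      i.app U ≫ (pullback.fst q V.hom).appLE (i ⁻¹ᵁ U) (opT q (i ⁻¹ᵁ U) V) le_rfl := by
    rw [Scheme.Hom.appLE_comp_appLE, Scheme.Hom.app_eq_appLE, Scheme.Hom.appLE_comp_appLE]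
    congr 1
    exact bc_fst hq V
  exact congr(($h1).hom b)

lemma iT_rT {U U' : Y.Opens} (h : U' ≤ U) (x : FT p U V) :
    iT U' V hq (rT h x) = rT (i.preimage_mono h) (iT U V hq x) := by
  have h1 : (PicF.XT p V).presheaf.map (homOfLE ((pullback.fst p V.hom).preimage_mono h)).op ≫
      (bc hq V).appLE (opT p U' V) (opT q (i ⁻¹ᵁ U') V) (bc_preimage hq).ge =
      (bc hq V).appLE (opT p U V) (opT q (i ⁻¹ᵁ U) V) (bc_preimage hq).ge ≫
      (PicF.XT q V).presheaf.map (homOfLE ((pullback.fst q V.hom).preimage_mono (i.preimage_mono h))).op := by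
    rw [Scheme.Hom.map_appLE, Scheme.Hom.appLE_map]
  exact congr(($h1).hom x)

end Sub

end Groth.Agent.Pic13.H965.Tens
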